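import Mathlib.RingTheory.MvPowerSeries.Equiv
import Mathlib.RingTheory.AdicCompletion.Algebra
import Mathlib.RingTheory.Polynomial.Basic

/-! The completion of a Noetherian ring is Noetherian. -/

universe u

namespace Groth.Agent.Matlis6

open MvPolynomial in
theorem isNoetherianRing_adicCompletion {R : Type u} [CommRing R] [IsNoetherianRing R] (I : Ideal R) :
    IsNoetherianRing (AdicCompletion I R) := by
  obtain ⟨n, a, ha⟩ := Submodule.fg_iff_exists_fin_generating_family.1 (IsNoetherian.noetherian I)
  let φ : MvPolynomial (Fin n) R →+* R := (aeval a : MvPolynomial (Fin n) R →ₐ[R] R).toRingHom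
  have hφ : Function.Surjective φ := fun r => ⟨C r, by simp [φ]⟩
  set J := idealOfVars (Fin n) R with hJdef
  have hJ : J.map φ = I := by
    rw [hJdef, idealOfVars, Ideal.map_span, ← Set.range_comp]
    have : (φ ∘ X : Fin n → R) = a := by ext i; simp [φ]
    rw [this]; exact ha
  have hle : ∀ k, J ^ k ≤ (I ^ k).comap φ := fun k => by
    rw [← Ideal.map_le_iff_le_comap, Ideal.map_pow, hJ]
  let f : (k : ℕ) → AdicCompletion J (MvPolynomial (Fin n) R) →+* R ⧸ I ^ k := fun k =>
    (Ideal.quotientMap (I ^ k) φ (hle k)).comp (AdicCompletion.evalₐ J k).toRingHom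
  have hf : ∀ {i j : ℕ} (h : i ≤ j), (Ideal.Quotient.factorPow I h).comp (f j) = f i := by
    intro i j h
    refine RingHom.ext fun x => ?_
    induction x using AdicCompletion.induction_on with
    | _ g =>
      simp only [f, RingHom.comp_apply, AlgHom.toRingHom_eq_coe, RingHom.coe_coe, AdicCompletion.evalₐ_mk]
      have := congrArg (Ideal.quotientMap (I ^ i) φ (hle i)) (AdicCompletion.Ideal.mk_eq_mk J h g)
      simpa [Ideal.quotientMap_mk] using this
  let h := AdicCompletion.liftRingHom I f hf
  haveI : IsNoetherianRing (AdicCompletion J (MvPolynomial (Fin n) R)) :=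
    isNoetherianRing_of_ringEquiv (MvPowerSeries (Fin n) R)
      (MvPowerSeries.toAdicCompletionAlgEquiv (Fin n) R).toRingEquiv
  refine isNoetherianRing_of_surjective _ _ h fun y => ?_
  obtain ⟨r, rfl⟩ := AdicCompletion.mk_surjective I R y
  have hd : ∀ k, ∃ d ∈ J ^ k, φ d = r (k + 1) - r k := by
    intro k
    have hmem : r (k + 1) - r k ∈ (J ^ k).map φ := by
      rw [Ideal.map_pow, hJ]
      have := (r.property k.le_succ).symm
      rwa [SModEq.sub_mem, smul_eq_mul, Ideal.mul_top] at this
    exact (Ideal.mem_map_iff_of_surjective φ hφ).1 hmem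
  choose d hdJ hdφ using hd
  let q : ℕ → MvPolynomial (Fin n) R := fun k => Nat.rec (C (r 0)) (fun i qi => qi + d i) k
  let Q : AdicCompletion.AdicCauchySequence J (MvPolynomial (Fin n) R) :=
    AdicCompletion.AdicCauchySequence.mk J _ q fun k => by
      rw [SModEq.sub_mem, smul_eq_mul, Ideal.mul_top]
      change q k - (q k + d k) ∈ J ^ k
      simpa using hdJ k
  have hq : ∀ k, φ (q k) = r k := by
    intro k
    induction k with
    | zero => simp [q, φ]
    | succ k ih =>
      change φ (q k + d k) = r (k + 1)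
      rw [_root_.map_add, ih, hdφ, add_sub_cancel]
  refine ⟨AdicCompletion.mk J _ Q, AdicCompletion.ext_evalₐ fun k => ?_⟩
  rw [AdicCompletion.evalₐ_liftRingHom, AdicCompletion.evalₐ_mk]
  simp only [f, RingHom.comp_apply, AlgHom.toRingHom_eq_coe, RingHom.coe_coe, AdicCompletion.evalₐ_mk,
    Ideal.quotientMap_mk]
  exact congrArg _ (hq k)

end Groth.Agent.Matlis6
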