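import Groth.Prelude.Def_Wider
import Mathlib.Algebra.Category.ModuleCat.EnoughInjectives
import Mathlib.Algebra.Module.Injective
import Mathlib.Order.Zorn

/-! Existence of injective hulls. -/

universe u

open CategoryTheory

namespace Groth.Agent.Matlis6

theorem exists_injective_embedding (R : Type u) [CommRing R] (M : Type u) [AddCommGroup M] [Module R M] :
    ∃ (I : Type u) (_ : AddCommGroup I) (_ : Module R I) (ι : M →ₗ[R] I),
      Function.Injective ι ∧ Module.Injective R I := by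
  let X : ModuleCat.{u} R := ModuleCat.of R M
  let J : ModuleCat.{u} R := Injective.under X
  haveI : Injective (ModuleCat.of R J) := (inferInstance : Injective (Injective.under X))
  exact ⟨J, inferInstance, inferInstance, (Injective.ι X).hom,
    (ModuleCat.mono_iff_injective (Injective.ι X)).1 inferInstance,
    Module.injective_module_of_injective_object R J⟩

theorem exists_isInjectiveHull (R : Type u) [CommRing R] (M : Type u) [AddCommGroup M] [Module R M] :
    ∃ (E : Type u) (_ : AddCommGroup E) (_ : Module R E) (f : M →ₗ[R] E), InjHull.IsInjectiveHull f := by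
  obtain ⟨I, _, _, ι, hι, hI⟩ := exists_injective_embedding R M
  let P : Set (Submodule R I) :=
    {E | LinearMap.range ι ≤ E ∧ ∀ x ∈ E, x ≠ 0 → ∃ r : R, r • x ≠ 0 ∧ r • x ∈ LinearMap.range ι}
  obtain ⟨E, hrE, hEmax⟩ := zorn_le_nonempty₀ P (fun c hc hchain y hy => by
    refine ⟨sSup c, ⟨(hc hy).1.trans (le_sSup hy), fun x hx hx0 => ?_⟩, fun z hz => le_sSup hz⟩
    obtain ⟨z, hz, hxz⟩ := (Submodule.mem_sSup_of_directed ⟨y, hy⟩ hchain.directedOn).1 hx
    exact (hc hz).2 x hxz hx0) (LinearMap.range ι)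
    ⟨le_rfl, fun x hx hx0 => ⟨1, by rwa [one_smul], by rwa [one_smul]⟩⟩
  have hEP : E ∈ P := hEmax.1
  let Q : Set (Submodule R I) := {N | Disjoint N E}
  obtain ⟨N, -, hNmax⟩ := zorn_le_nonempty₀ Q (fun c hc hchain y hy => by
    refine ⟨sSup c, ?_, fun z hz => le_sSup hz⟩
    change Disjoint _ _
    rw [Submodule.disjoint_def]
    intro x hx hxE
    obtain ⟨z, hz, hxz⟩ := (Submodule.mem_sSup_of_directed ⟨y, hy⟩ hchain.directedOn).1 hx
    exact Submodule.disjoint_def.1 (hc hz) x hxz hxE) ⊥ disjoint_bot_left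
  have hNE : Disjoint N E := hNmax.1
  let j : E →ₗ[R] I ⧸ N := N.mkQ.comp E.subtype
  have hj : Function.Injective j := by
    rw [injective_iff_map_eq_zero]
    intro x hx
    exact Subtype.ext (Submodule.disjoint_def.1 hNE x.1 ((Submodule.Quotient.mk_eq_zero N).1 hx) x.2)
  obtain ⟨h, hh⟩ := hI.out j hj E.subtype
  have hker : ∀ q : I ⧸ N, h q = 0 → q = 0 := by
    intro q hq
    by_contra hq0
    obtain ⟨x, rfl⟩ := Submodule.Quotient.mk_surjective _ q
    have hxN : x ∉ N := fun hx => hq0 ((Submodule.Quotient.mk_eq_zero N).2 hx)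
    have hnd : ¬ Disjoint (N ⊔ R ∙ x) E := fun hd =>
      hxN (hNmax.2 hd le_sup_left (Submodule.mem_sup_right (Submodule.mem_span_singleton_self x)))
    rw [Submodule.disjoint_def] at hnd
    push Not at hnd
    obtain ⟨z, hz, hzE, hz0⟩ := hnd
    obtain ⟨n, hn, w, hw, rfl⟩ := Submodule.mem_sup.1 hz
    obtain ⟨r, rfl⟩ := Submodule.mem_span_singleton.1 hw
    have hjz : j ⟨n + r • x, hzE⟩ = r • (Submodule.Quotient.mk x : I ⧸ N) := by
      change (Submodule.Quotient.mk (n + r • x) : I ⧸ N) = _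
      rw [Submodule.Quotient.mk_add, (Submodule.Quotient.mk_eq_zero N).2 hn, zero_add, Submodule.Quotient.mk_smul]
    have h2 := hh ⟨n + r • x, hzE⟩
    rw [hjz, map_smul, hq, smul_zero] at h2
    exact hz0 h2.symm
  have hrange : LinearMap.range h ≤ E := by
    refine hEmax.2 ⟨?_, ?_⟩ ?_
    · intro x hx
      exact ⟨j ⟨x, hEP.1 hx⟩, hh _⟩
    · rintro _ ⟨q, rfl⟩ hq0
      obtain ⟨x, rfl⟩ := Submodule.Quotient.mk_surjective _ q
      have hxN : x ∉ N := fun hx => hq0 (by rw [(Submodule.Quotient.mk_eq_zero N).2 hx, map_zero])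
      have hnd : ¬ Disjoint (N ⊔ R ∙ x) E := fun hd =>
        hxN (hNmax.2 hd le_sup_left (Submodule.mem_sup_right (Submodule.mem_span_singleton_self x)))
      rw [Submodule.disjoint_def] at hnd
      push Not at hnd
      obtain ⟨z, hz, hzE, hz0⟩ := hnd
      obtain ⟨n, hn, w, hw, rfl⟩ := Submodule.mem_sup.1 hz
      obtain ⟨r, rfl⟩ := Submodule.mem_span_singleton.1 hw
      obtain ⟨s, hs0, hs⟩ := hEP.2 _ hzE hz0
      have hjz : j ⟨n + r • x, hzE⟩ = r • (Submodule.Quotient.mk x : I ⧸ N) := by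
        change (Submodule.Quotient.mk (n + r • x) : I ⧸ N) = _
        rw [Submodule.Quotient.mk_add, (Submodule.Quotient.mk_eq_zero N).2 hn, zero_add, Submodule.Quotient.mk_smul]
      have h2 : r • h (Submodule.Quotient.mk x) = n + r • x := by
        have := hh ⟨n + r • x, hzE⟩
        rwa [hjz, map_smul] at this
      exact ⟨s * r, by rw [mul_smul, h2]; exact hs0, by rw [mul_smul, h2]; exact hs⟩
    · intro x hx
      exact ⟨j ⟨x, hx⟩, hh _⟩
  let p : I →ₗ[R] E := (h.comp N.mkQ).codRestrict E (fun x => hrange ⟨_, rfl⟩)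
  have hp : ∀ x : E, p x.1 = x := fun x => Subtype.ext (hh x)
  have hinjE : Module.Injective R E := by
    constructor
    intro X Y _ _ _ _ f hf g
    obtain ⟨k, hk⟩ := hI.out f hf (E.subtype.comp g)
    exact ⟨p.comp k, fun x => by rw [LinearMap.comp_apply, hk]; exact hp (g x)⟩
  refine ⟨E, inferInstance, inferInstance, ι.codRestrict E (fun x => hEP.1 ⟨x, rfl⟩), ⟨⟨?_, ?_⟩, hinjE⟩⟩
  · exact fun a b hab => hι (congrArg Subtype.val hab)
  · intro L hL
    obtain ⟨y, hy, hy0⟩ := (Submodule.ne_bot_iff _).1 hL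
    obtain ⟨r, hr0, ⟨a, ha⟩⟩ := hEP.2 y.1 y.2 (fun h => hy0 (Subtype.ext h))
    exact (Submodule.ne_bot_iff _).2 ⟨r • y, ⟨L.smul_mem r hy, a, Subtype.ext ha⟩,
      fun h => hr0 (congrArg Subtype.val h)⟩

end Groth.Agent.Matlis6
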