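import Groth.Agent.Matlis6.Local
import Mathlib.Algebra.Category.ModuleCat.ChangeOfRings

/-! Hulls over quotients and finite extensions; characterisation of hulls. -/

universe u

namespace Groth.Agent.Matlis6

variable {R : Type u} [CommRing R]

theorem exists_socle_multiple {m : Ideal R} {M : Type*} [AddCommGroup M] [Module R M] {x : M} (hx0 : x ≠ 0)
    {k : ℕ} (hk : ∀ a ∈ m ^ k, a • x = 0) : ∃ a : R, (∀ c ∈ m, c • a • x = 0) ∧ a • x ≠ 0 := by
  induction k generalizing x with
  | zero => exact absurd (by simpa using hk 1 (by simp)) hx0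
  | succ k ih =>
    by_cases h : ∀ a ∈ m ^ k, a • x = 0
    · exact ih hx0 h
    · push Not at h
      obtain ⟨a, ha, hax⟩ := h
      refine ⟨a, fun c hc => ?_, hax⟩
      rw [smul_smul]
      exact hk _ (by rw [pow_succ']; exact Ideal.mul_mem_mul hc ha)

theorem IsHullAt.of_torsion {m : Ideal R} [hm : m.IsMaximal] {E : Type u} [AddCommGroup E] [Module R E]
    (hinj : Module.Injective R E) (ht : LocCoh.IsPowerTorsion m E) {e : E} (he : e ≠ 0)
    (hme : ∀ a ∈ m, a • e = 0) (hsoc : ∀ x : E, (∀ a ∈ m, a • x = 0) → ∃ c : R, x = c • e) :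
    IsHullAt m E := by
  refine ⟨hinj, e, he, hme, fun x hx => ?_⟩
  obtain ⟨k, hk⟩ := ht x
  obtain ⟨a, ha, hax⟩ := exists_socle_multiple hx hk
  obtain ⟨c, hc⟩ := hsoc _ ha
  exact ⟨a, c, hax, hc⟩

theorem injective_torsionBy (a : Ideal R) {E : Type u} [AddCommGroup E] [Module R E] (hinj : Module.Injective R E) :
    Module.Injective (R ⧸ a) ↥(LocCoh.torsionBy a E) := by
  constructor
  intro X Y _ _ _ _ f hf g
  let mk := Ideal.Quotient.mk a
  letI : Module R X := Module.compHom X mk
  letI : Module R Y := Module.compHom Y mk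
  let fR : X →ₗ[R] Y := { toFun := f, map_add' := f.map_add, map_smul' := fun r x => f.map_smul (mk r) x }
  let gR : X →ₗ[R] E :=
    { toFun := fun x => (g x : E), map_add' := fun x y => by rw [map_add]; rfl
      map_smul' := fun r x => by
        change ((g (mk r • x) : _) : E) = r • ((g x : _) : E)
        rw [map_smul]; rfl }
  obtain ⟨h, hh⟩ := hinj.out fR hf gR
  have hmem : ∀ y : Y, h y ∈ LocCoh.torsionBy a E := fun y => (Submodule.mem_torsionBySet_iff _ _).2 fun c => by
    rw [← map_smul]
    have h0 : ((c : R) • y : Y) = 0 := by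
      change mk (c : R) • y = 0
      rw [show mk (c : R) = 0 from Ideal.Quotient.eq_zero_iff_mem.2 c.2, zero_smul]
    rw [h0, map_zero]
  refine ⟨{ toFun := fun y => ⟨h y, hmem y⟩, map_add' := fun x y => Subtype.ext (map_add h x y),
            map_smul' := fun r y => ?_ }, fun x => Subtype.ext (hh x)⟩
  obtain ⟨r, rfl⟩ := Ideal.Quotient.mk_surjective r
  exact Subtype.ext (map_smul h r y)

theorem IsHullAt.torsionBy {m : Ideal R} [hm : m.IsMaximal] {E : Type u} [AddCommGroup E] [Module R E]
    (hE : IsHullAt m E) (a : Ideal R) (ha : a ≤ m) :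
    IsHullAt (m.map (Ideal.Quotient.mk a)) ↥(LocCoh.torsionBy a E) := by
  refine ⟨injective_torsionBy a hE.inj, ?_⟩
  obtain ⟨e, he, hme, hess⟩ := hE.ess
  have hea : e ∈ LocCoh.torsionBy a E := (Submodule.mem_torsionBySet_iff _ _).2 fun c => hme c (ha c.2)
  refine ⟨⟨e, hea⟩, fun h => he (congrArg Subtype.val h), fun b hb => ?_, fun x hx => ?_⟩
  · obtain ⟨c, hc, rfl⟩ := (Ideal.mem_map_iff_of_surjective _ Ideal.Quotient.mk_surjective).1 hb
    exact Subtype.ext (hme c hc)
  · obtain ⟨r, c, hrx, hrc⟩ := hess x.1 (fun h => hx (Subtype.ext h))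
    exact ⟨Ideal.Quotient.mk a r, Ideal.Quotient.mk a c, fun h => hrx (congrArg Subtype.val h), Subtype.ext hrc⟩

variable (A B : Type u) [CommRing A] [CommRing B] [Algebra A B]

/-- `Hom_A(B, E)` is injective over `B`. -/
theorem injective_coextend (E : Type u) [AddCommGroup E] [Module A E] (hinj : Module.Injective A E) :
    Module.Injective B ((ModuleCat.coextendScalars (algebraMap A B)).obj (ModuleCat.of A E)) := by
  constructor
  intro X Y _ _ _ _ f hf g
  letI : Module A X := Module.compHom X (algebraMap A B)
  letI : Module A Y := Module.compHom Y (algebraMap A B)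
  let fA : X →ₗ[A] Y := { toFun := f, map_add' := f.map_add, map_smul' := fun r x => f.map_smul (algebraMap A B r) x }
  let gA : X →ₗ[A] E :=
    { toFun := fun x => (g x) (1 : B)
      map_add' := fun x y => by rw [map_add]; rfl
      map_smul' := fun r x => by
        change (g (algebraMap A B r • x)) (1 : B) = r • (g x) (1 : B)
        rw [map_smul]
        rw [ModuleCat.CoextendScalars.smul_apply, one_mul]
        conv_lhs => rw [show (algebraMap A B r : B) = algebraMap A B r * 1 from (mul_one _).symm]
        exact (g x).map_smul r (1 : B) }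
  obtain ⟨h, hh⟩ := hinj.out fA hf gA
  let toB : ↑((ModuleCat.restrictScalars (algebraMap A B)).obj (ModuleCat.of B B)) → B := fun b => b
  refine ⟨{ toFun := fun y =>
              { toFun := fun b => h (toB b • y)
                map_add' := fun b c => (congrArg h (add_smul (toB b) (toB c) y)).trans (map_add h _ _)
                map_smul' := fun r b =>
                  (congrArg h (mul_smul (algebraMap A B r) (toB b) y)).trans (h.map_smul r (toB b • y)) }
            map_add' := fun x y => LinearMap.ext fun b => (congrArg h (smul_add (toB b) x y)).trans (map_add h _ _)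
            map_smul' := fun c y => LinearMap.ext fun b => congrArg h (mul_smul (toB b) c y).symm }, fun x => ?_⟩
  refine LinearMap.ext fun b : B => ?_
  change h (b • f x) = (g x) b
  rw [← map_smul]
  refine (hh (b • x)).trans ?_
  change (g (b • x)) (1 : B) = (g x) b
  rw [map_smul, ModuleCat.CoextendScalars.smul_apply, one_mul]

end Groth.Agent.Matlis6
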