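import Groth.Agent.Matlis6.Completion
import Mathlib.RingTheory.LocalRing.ResidueField.Basic

/-! Matlis duality over local rings. -/

universe u

namespace Groth.Agent.Matlis6

variable {R : Type u} [CommRing R] [IsLocalRing R] {E : Type u} [AddCommGroup E] [Module R E]

local notation "𝔪" => IsLocalRing.maximalIdeal R

theorem IsHullAt.applyl_injective_local (hE : IsHullAt 𝔪 E) (G : Type u) [AddCommGroup G] [Module R G] :
    Function.Injective (LinearMap.applyₗ : G →ₗ[R] (G →ₗ[R] E) →ₗ[R] E) :=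
  applyl_injective fun _ hx => hE.exists_apply_ne_zero_local hx

theorem IsHullAt.annihilator_dual (hE : IsHullAt 𝔪 E) (G : Type u) [AddCommGroup G] [Module R G] :
    Module.annihilator R G = Module.annihilator R (G →ₗ[R] E) := by
  refine le_antisymm (fun r hr => ?_) (fun r hr => ?_) <;> rw [Module.mem_annihilator] at hr ⊢
  · exact fun φ => LinearMap.ext fun x => by simp [← map_smul, hr x]
  · intro x
    by_contra hne
    obtain ⟨φ, hφ⟩ := hE.exists_apply_ne_zero_local hne
    exact hφ (by rw [map_smul]; exact LinearMap.congr_fun (hr φ) x)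

theorem IsHullAt.dual_length (hE : IsHullAt 𝔪 E) {M : Type u} [AddCommGroup M] [Module R M]
    (hfl : IsFiniteLength R M) : Module.length R (M →ₗ[R] E) = Module.length R M := by
  obtain ⟨n, hn⟩ := exists_pow_killed_of_isFiniteLength hfl
  exact hE.length_dual hfl hn

theorem IsHullAt.dual_dual (hE : IsHullAt 𝔪 E) {M : Type u} [AddCommGroup M] [Module R M]
    (hfl : IsFiniteLength R M) :
    Function.Bijective (LinearMap.applyₗ : M →ₗ[R] (M →ₗ[R] E) →ₗ[R] E) := by
  obtain ⟨n, hn⟩ := exists_pow_killed_of_isFiniteLength hfl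
  exact hE.applyl_bijective hfl hn

variable [IsNoetherianRing R]

theorem IsHullAt.isArtinian_dual (hE : IsHullAt 𝔪 E) [IsNoetherianRing (AdicCompletion 𝔪 R)]
    (M : Type u) [AddCommGroup M] [Module R M] [Module.Finite R M] : IsArtinian R (M →ₗ[R] E) := by
  haveI := hE.isArtinian_of_isNoetherianRing
  obtain ⟨n, s, hs⟩ := Module.Finite.exists_fin (R := R) (M := M)
  let g : (M →ₗ[R] E) →ₗ[R] (Fin n → E) :=
    { toFun := fun φ i => φ (s i), map_add' := fun _ _ => rfl, map_smul' := fun _ _ => rfl }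
  refine isArtinian_of_injective g fun φ ψ h => ?_
  refine LinearMap.ext_on hs ?_
  rintro _ ⟨i, rfl⟩
  exact congrFun h i

theorem isNoetherianRing_completion_of_complete [IsAdicComplete 𝔪 R] :
    IsNoetherianRing (AdicCompletion 𝔪 R) :=
  isNoetherianRing_of_surjective R _ (algebraMap R (AdicCompletion 𝔪 R)) fun x => by
    obtain ⟨r, hr⟩ := (AdicCompletion.of_bijective 𝔪 R).2 x
    exact ⟨r, by rw [AdicCompletion.algebraMap_apply]; exact hr⟩

theorem IsHullAt.exists_eq_smul (hE : IsHullAt 𝔪 E) [IsAdicComplete 𝔪 R] (φ : Module.End R E) :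
    ∃ r : R, ∀ x, φ x = r • x := by
  obtain ⟨α, rfl⟩ := hE.act_bijective.2 φ
  obtain ⟨r, rfl⟩ := (AdicCompletion.of_bijective 𝔪 R).2 α
  refine ⟨r, fun x => ?_⟩
  have : AdicCompletion.of 𝔪 R r = algebraMap R _ r := (AdicCompletion.algebraMap_apply 𝔪 r).symm
  rw [this, AlgHom.commutes]
  rfl

theorem IsHullAt.applyl_pi_bijective (hE : IsHullAt 𝔪 E) [IsAdicComplete 𝔪 R] (n : ℕ) :
    Function.Bijective (LinearMap.applyₗ : (Fin n → R) →ₗ[R] ((Fin n → R) →ₗ[R] E) →ₗ[R] E) := by
  refine ⟨hE.applyl_injective_local _, fun Ψ => ?_⟩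
  let ι : Fin n → (E →ₗ[R] ((Fin n → R) →ₗ[R] E)) := fun i =>
    { toFun := fun x => (LinearMap.toSpanSingleton R E x).comp (LinearMap.proj i)
      map_add' := fun x y => LinearMap.ext fun v => smul_add _ _ _
      map_smul' := fun c x => LinearMap.ext fun v => smul_comm _ _ _ }
  choose r hr using fun i => hE.exists_eq_smul (Ψ.comp (ι i))
  refine ⟨r, LinearMap.ext fun φ => ?_⟩
  change φ r = Ψ φ
  have hφ : φ = ∑ i, ι i (φ (Pi.single i 1)) := by
    refine LinearMap.ext fun v => ?_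
    simp only [LinearMap.sum_apply]
    calc φ v = ∑ i, v i • φ (Pi.single i 1) := by
          conv_lhs => rw [pi_eq_sum_univ' v]
          simp [map_sum]
      _ = _ := rfl
  conv_rhs => rw [hφ, map_sum]
  conv_lhs => rw [pi_eq_sum_univ' r]
  simp only [map_sum, map_smul]
  exact Finset.sum_congr rfl fun i _ => (hr i _).symm

theorem IsHullAt.applyl_bijective_finite (hE : IsHullAt 𝔪 E) [IsAdicComplete 𝔪 R]
    (M : Type u) [AddCommGroup M] [Module R M] [Module.Finite R M] :
    Function.Bijective (LinearMap.applyₗ : M →ₗ[R] (M →ₗ[R] E) →ₗ[R] E) := by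
  refine ⟨hE.applyl_injective_local M, fun Ψ => ?_⟩
  obtain ⟨n, s, hs⟩ := Module.Finite.exists_fin (R := R) (M := M)
  let p : (Fin n → R) →ₗ[R] M := Fintype.linearCombination R s
  have hp : Function.Surjective p := by
    rw [← LinearMap.range_eq_top, Fintype.range_linearCombination, hs]
  have hinj : Function.Injective (LinearMap.lcomp R E p) := fun φ ψ h => by
    refine LinearMap.ext fun x => ?_
    obtain ⟨v, rfl⟩ := hp x
    exact LinearMap.congr_fun h v
  obtain ⟨Φ, hΦ⟩ := lcomp_surjective hE.inj _ hinj Ψ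
  obtain ⟨v, rfl⟩ := (hE.applyl_pi_bijective n).2 Φ
  exact ⟨p v, by rw [← hΦ]; rfl⟩

omit [IsNoetherianRing R] in
theorem IsHullAt.exists_embedding (hE : IsHullAt 𝔪 E) {M : Type u} [AddCommGroup M] [Module R M]
    (hM : LocCoh.IsPowerTorsion 𝔪 M)
    [Module.Finite (R ⧸ 𝔪) ↥(LocCoh.torsionBy 𝔪 M)] (n : ℕ)
    (hn : Module.finrank (R ⧸ 𝔪) ↥(LocCoh.torsionBy 𝔪 M) = n) :
    ∃ g : M →ₗ[R] (Fin n → E), Function.Injective g := by
  obtain ⟨e, he, hme, -⟩ := hE.ess
  letI : Field (R ⧸ 𝔪) := Ideal.Quotient.field _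
  let b := Module.finBasisOfFinrankEq (R ⧸ 𝔪) ↥(LocCoh.torsionBy 𝔪 M) hn
  let i₀ : (R ⧸ 𝔪) →ₗ[R] E := Submodule.liftQ 𝔪 (LinearMap.toSpanSingleton R E e) fun a ha => by simpa using hme a ha
  have hi₀ : Function.Injective i₀ := by
    rw [injective_iff_map_eq_zero]
    intro q
    induction q using Submodule.Quotient.induction_on with
    | _ r =>
      intro h
      rw [Submodule.Quotient.mk_eq_zero]
      by_contra hr
      obtain ⟨s, hs⟩ := exists_smul_eq_of_isMaximal hme hr
      rw [Submodule.liftQ_apply, LinearMap.toSpanSingleton_apply] at h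
      exact he (by rw [← hs, h, smul_zero])
  let g₀ : ↥(LocCoh.torsionBy 𝔪 M) →ₗ[R] (Fin n → E) :=
    (LinearMap.pi fun i => i₀.comp (LinearMap.proj i)).comp
      ((b.equivFun : ↥(LocCoh.torsionBy 𝔪 M) ≃ₗ[R ⧸ 𝔪] (Fin n → R ⧸ 𝔪)).toLinearMap.restrictScalars R)
  have hg₀ : Function.Injective g₀ := by
    intro x y h
    apply b.equivFun.injective
    funext i
    exact hi₀ (congrFun h i)
  haveI := hE.inj
  obtain ⟨g, hg⟩ := (Module.Injective.pi (R := R) (M := fun _ : Fin n => E)).out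
    (Submodule.subtype _) (Submodule.injective_subtype _) g₀
  refine ⟨g, (injective_iff_map_eq_zero g).2 fun x hx => ?_⟩
  by_contra hx0
  obtain ⟨k, hk⟩ := hM x
  classical
  have hex : ∃ j, ∀ a ∈ 𝔪 ^ j, a • x = 0 := ⟨k, hk⟩
  obtain ⟨a, ha, hax⟩ : ∃ a : R, (∀ c ∈ 𝔪, c • a • x = 0) ∧ a • x ≠ 0 := by
    cases hj : Nat.find hex with
    | zero => exact absurd (by simpa using (Nat.find_spec hex) 1 (by rw [hj]; simp)) hx0
    | succ j =>
      have := Nat.find_min hex (show j < Nat.find hex by omega)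
      push Not at this
      obtain ⟨a, ha, hax⟩ := this
      refine ⟨a, fun c hc => ?_, hax⟩
      rw [smul_smul]
      exact Nat.find_spec hex _ (by rw [hj, pow_succ']; exact Ideal.mul_mem_mul hc ha)
  have hmem : a • x ∈ LocCoh.torsionBy 𝔪 M := (Submodule.mem_torsionBySet_iff _ _).2 fun c => ha c c.2
  have h0 : g₀ ⟨a • x, hmem⟩ = 0 := by
    rw [← hg]
    change g (a • x) = 0
    rw [map_smul, hx, smul_zero]
  exact hax (congrArg Subtype.val (hg₀ (h0.trans (map_zero g₀).symm)))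

omit [IsNoetherianRing R] in
theorem isPowerTorsion_of_isArtinian [IsNoetherianRing R] {M : Type u} [AddCommGroup M] [Module R M] [IsArtinian R M] :
    LocCoh.IsPowerTorsion 𝔪 M := by
  intro x
  have hle : 𝔪 ≤ Ideal.radical (LinearMap.ker (LinearMap.toSpanSingleton R M x)) := by
    intro a ha
    let c : ℕ →o (Submodule R M)ᵒᵈ :=
      { toFun := fun n => OrderDual.toDual (R ∙ (a ^ n • x))
        monotone' := monotone_nat_of_le_succ fun n => by
          change (R ∙ (a ^ (n + 1) • x)) ≤ R ∙ (a ^ n • x)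
          rw [Submodule.span_singleton_le_iff_mem, pow_succ', mul_smul]
          exact Submodule.smul_mem _ _ (Submodule.mem_span_singleton_self _) }
    obtain ⟨n, hn⟩ := IsArtinian.monotone_stabilizes c
    have h1 : a ^ n • x ∈ R ∙ (a ^ (n + 1) • x) := by
      have := hn (n + 1) n.le_succ
      change (R ∙ (a ^ n • x)) = R ∙ (a ^ (n + 1) • x) at this
      rw [← this]; exact Submodule.mem_span_singleton_self _
    obtain ⟨r, hr⟩ := Submodule.mem_span_singleton.1 h1
    refine ⟨n, ?_⟩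
    have hu : IsUnit (1 - r * a) := IsLocalRing.notMem_maximalIdeal.1 fun h =>
      (IsLocalRing.maximalIdeal.isMaximal R).ne_top ((Ideal.eq_top_iff_one _).2
        (by simpa using (𝔪).add_mem h ((𝔪).mul_mem_left r ha)))
    rw [LinearMap.mem_ker, LinearMap.toSpanSingleton_apply]
    refine (IsUnit.smul_eq_zero hu).1 ?_
    rw [sub_smul, one_smul, mul_smul, smul_smul a, ← pow_succ', hr, sub_self]
  obtain ⟨n, hn⟩ := Ideal.exists_pow_le_of_le_radical_of_fg hle (IsNoetherian.noetherian _)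
  exact ⟨n, fun a ha => by simpa using hn ha⟩

omit [IsNoetherianRing R] in
theorem finite_socle_of_isArtinian {M : Type u} [AddCommGroup M] [Module R M] [IsArtinian R M] :
    Module.Finite (R ⧸ 𝔪) ↥(LocCoh.torsionBy 𝔪 M) := by
  letI : Field (R ⧸ 𝔪) := Ideal.Quotient.field _
  haveI : IsArtinian (R ⧸ 𝔪) ↥(LocCoh.torsionBy 𝔪 M) :=
    isArtinian_of_tower R inferInstance
  haveI : IsSemisimpleModule (R ⧸ 𝔪) ↥(LocCoh.torsionBy 𝔪 M) := inferInstance
  have h := IsSemisimpleModule.finite_tfae (R := R ⧸ 𝔪) (M := ↥(LocCoh.torsionBy 𝔪 M))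
  have h2 : Module.Finite (R ⧸ 𝔪) ↥(LocCoh.torsionBy 𝔪 M) ↔ IsArtinian (R ⧸ 𝔪) ↥(LocCoh.torsionBy 𝔪 M) := h.out 0 2
  exact h2.2 inferInstance

theorem IsHullAt.dual_finite_of_isArtinian (hE : IsHullAt 𝔪 E) [IsAdicComplete 𝔪 R]
    (M : Type u) [AddCommGroup M] [Module R M] [IsArtinian R M] :
    Module.Finite R (M →ₗ[R] E) ∧
      Function.Bijective (LinearMap.applyₗ : M →ₗ[R] (M →ₗ[R] E) →ₗ[R] E) := by
  haveI := finite_socle_of_isArtinian (R := R) (M := M)
  obtain ⟨n, hn⟩ : ∃ n, Module.finrank (R ⧸ 𝔪) ↥(LocCoh.torsionBy 𝔪 M) = n := ⟨_, rfl⟩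
  obtain ⟨g, hg⟩ := hE.exists_embedding (M := M) isPowerTorsion_of_isArtinian n hn
  have hsurj := lcomp_surjective hE.inj g hg
  let χ : (Fin n → R) →ₗ[R] ((Fin n → E) →ₗ[R] E) :=
    Fintype.linearCombination R (fun i => (LinearMap.proj i : (Fin n → E) →ₗ[R] E))
  have hχ : Function.Surjective χ := by
    intro φ
    choose r hr using fun i => hE.exists_eq_smul (φ.comp (LinearMap.single R (fun _ : Fin n => E) i))
    refine ⟨r, LinearMap.ext fun v => ?_⟩
    rw [Fintype.linearCombination_apply, LinearMap.sum_apply]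
    conv_rhs => rw [← Finset.univ_sum_single v]
    rw [map_sum]
    exact Finset.sum_congr rfl fun i _ => (hr i (v i)).symm
  refine ⟨Module.Finite.of_surjective ((LinearMap.lcomp R E g).comp χ) (hsurj.comp hχ),
    hE.applyl_injective_local M, fun Ψ => ?_⟩
  let Φ : ((Fin n → E) →ₗ[R] E) →ₗ[R] E := Ψ.comp (LinearMap.lcomp R E g)
  let y : Fin n → E := fun i => Φ (LinearMap.proj i)
  have hy : ∀ φ, Φ φ = φ y := by
    intro φ
    obtain ⟨r, rfl⟩ := hχ φ
    simp [χ, y, Fintype.linearCombination_apply, map_sum]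
  by_cases hmem : y ∈ LinearMap.range g
  · obtain ⟨x, hx⟩ := hmem
    refine ⟨x, LinearMap.ext fun ψ => ?_⟩
    obtain ⟨φ, rfl⟩ := hsurj ψ
    change φ (g x) = Φ φ
    rw [hy, hx]
  · exfalso
    obtain ⟨φ, hφ⟩ := hE.exists_apply_ne_zero_local (G := (Fin n → E) ⧸ LinearMap.range g)
      (x := Submodule.Quotient.mk y) (by rwa [Ne, Submodule.Quotient.mk_eq_zero])
    refine hφ ?_
    have h0 : LinearMap.lcomp R E g (φ.comp (LinearMap.range g).mkQ) = 0 := by
      refine LinearMap.ext fun x => ?_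
      change φ (Submodule.Quotient.mk (g x)) = 0
      rw [(Submodule.Quotient.mk_eq_zero (LinearMap.range g)).2 ⟨x, rfl⟩, map_zero]
    have := hy (φ.comp (LinearMap.range g).mkQ)
    simp only [Φ, LinearMap.comp_apply] at this
    rw [h0, map_zero] at this
    exact this.symm

end Groth.Agent.Matlis6
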