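import Groth.Agent.Matlis6.Transfer
import Groth.Agent.Matlis6.HullExistence

/-! Recognising hulls inside injective modules with one dimensional socle. -/

universe u

namespace Groth.Agent.Matlis6

variable {R : Type u} [CommRing R] (m : Ideal R) (C : Type u) [AddCommGroup C] [Module R C]

/-- The `m`-power torsion submodule. -/
def tors : Submodule R C := ⨆ n : ℕ, Submodule.torsionBySet R C ((m ^ n : Ideal R) : Set R)

theorem mem_tors {x : C} : x ∈ tors m C ↔ ∃ n : ℕ, ∀ a ∈ m ^ n, a • x = 0 := by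
  have hmono : Monotone fun n : ℕ => Submodule.torsionBySet R C ((m ^ n : Ideal R) : Set R) := by
    intro i j hij y hy
    rw [Submodule.mem_torsionBySet_iff] at hy ⊢
    exact fun a => hy ⟨a.1, Ideal.pow_le_pow_right hij a.2⟩
  rw [tors, Submodule.mem_iSup_of_directed _ hmono.directed_le]
  simp [Submodule.mem_torsionBySet_iff]

variable {m C}

theorem exists_isHullAt (m : Ideal R) [m.IsMaximal] :
    ∃ (E : Type u) (_ : AddCommGroup E) (_ : Module R E), IsHullAt m E := by
  obtain ⟨E, _, _, f, hf⟩ := exists_isInjectiveHull R (R ⧸ m)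
  exact ⟨E, inferInstance, inferInstance, of_isInjectiveHull hf⟩

theorem IsHullAt.exists_isInjectiveHull_residueField {R : Type u} [CommRing R] [IsLocalRing R] {E : Type u}
    [AddCommGroup E] [Module R E] (hE : IsHullAt (IsLocalRing.maximalIdeal R) E) :
    ∃ f : IsLocalRing.ResidueField R →ₗ[R] E, InjHull.IsInjectiveHull f :=
  hE.exists_isInjectiveHull

theorem exists_injective_of_socle_line [m.IsMaximal] {E : Type u} [AddCommGroup E] [Module R E]
    (hE : IsHullAt m E) {T : Type u} [AddCommGroup T] [Module R T] (ht : LocCoh.IsPowerTorsion m T) {e : T}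
    (he : e ≠ 0) (hme : ∀ a ∈ m, a • e = 0)
    (hsoc : ∀ x : T, (∀ a ∈ m, a • x = 0) → ∃ c : R, x = c • e) :
    ∃ g : T →ₗ[R] E, Function.Injective g := by
  obtain ⟨φ, hφ⟩ := hE.exists_apply_ne_zero_of_pow (x := e) he (n := 1) (fun a ha => hme a (by simpa using ha))
  refine ⟨φ, (injective_iff_map_eq_zero φ).2 fun x hx => ?_⟩
  by_contra hx0
  obtain ⟨k, hk⟩ := ht x
  obtain ⟨a, ha, hax⟩ := exists_socle_multiple hx0 hk
  obtain ⟨c, hc⟩ := hsoc _ ha
  have h0 : c • φ e = 0 := by rw [← map_smul, ← hc, map_smul, hx, smul_zero]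
  have hcm : c ∈ m := by
    by_contra hcm
    obtain ⟨s, hs⟩ := exists_smul_eq_of_isMaximal (m := m) (x := φ e)
      (fun a ha => by rw [← map_smul, hme a ha, map_zero]) hcm
    exact hφ (by rw [← hs, h0, smul_zero])
  exact hax (by rw [hc, hme c hcm])

/-- torsion elements killed by `m^j` as homs out of `R/m^j`. -/
noncomputable def torsionEquivHom (j : ℕ) (C : Type u) [AddCommGroup C] [Module R C] :
    ↥(Submodule.torsionBySet R C ((m ^ j : Ideal R) : Set R)) ≃ₗ[R] ((R ⧸ m ^ j) →ₗ[R] C) where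
  toFun x := Submodule.liftQ (m ^ j) (LinearMap.toSpanSingleton R C x.1)
    (fun a ha => by simpa using (Submodule.mem_torsionBySet_iff _ _).1 x.2 ⟨a, ha⟩)
  map_add' x y := LinearMap.ext fun q => by
    obtain ⟨r, rfl⟩ := Submodule.Quotient.mk_surjective _ q
    exact smul_add r (x : C) (y : C)
  map_smul' c x := LinearMap.ext fun q => by
    obtain ⟨r, rfl⟩ := Submodule.Quotient.mk_surjective _ q
    exact smul_comm r c (x : C)
  invFun φ := ⟨φ (Submodule.Quotient.mk 1), (Submodule.mem_torsionBySet_iff _ _).2 fun a => by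
    rw [← map_smul, killed_quotient_pow j a.1 a.2, map_zero]⟩
  left_inv x := Subtype.ext (one_smul R (x : C))
  right_inv φ := LinearMap.ext fun q => by
    obtain ⟨r, rfl⟩ := Submodule.Quotient.mk_surjective _ q
    change r • φ (Submodule.Quotient.mk 1) = φ (Submodule.Quotient.mk r)
    rw [← map_smul, ← Submodule.Quotient.mk_smul, smul_eq_mul, mul_one]

theorem IsSocleAt.length_torsion [m.IsMaximal] [IsNoetherianRing R] (hC : IsSocleAt m C) (j : ℕ) :
    Module.length R ↥(Submodule.torsionBySet R C ((m ^ j : Ideal R) : Set R)) = Module.length R (R ⧸ m ^ j) :=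
  (torsionEquivHom j C).length_eq.trans (hC.length_dual (isFiniteLength_quotient_pow j) (killed_quotient_pow j))

/-- A torsion module with socle line whose `m^j`-torsion is as long as possible is a hull. -/
theorem isHullAt_of_length [m.IsMaximal] [IsNoetherianRing R] {T : Type u} [AddCommGroup T] [Module R T]
    (ht : LocCoh.IsPowerTorsion m T) {e : T} (he : e ≠ 0) (hme : ∀ a ∈ m, a • e = 0)
    (hsoc : ∀ x : T, (∀ a ∈ m, a • x = 0) → ∃ c : R, x = c • e)
    (hlen : ∀ j : ℕ, Module.length R (R ⧸ m ^ j) ≤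
      Module.length R ↥(Submodule.torsionBySet R T ((m ^ j : Ideal R) : Set R))) : IsHullAt m T := by
  obtain ⟨E, _, _, hE⟩ := exists_isHullAt m
  obtain ⟨g, hg⟩ := exists_injective_of_socle_line hE ht he hme hsoc
  have hsurj : Function.Surjective g := by
    intro y
    obtain ⟨j, hj⟩ := hE.isPowerTorsion y
    let gj : ↥(Submodule.torsionBySet R T ((m ^ j : Ideal R) : Set R)) →ₗ[R]
        ↥(Submodule.torsionBySet R E ((m ^ j : Ideal R) : Set R)) :=
      g.restrict fun x hx => by
        rw [Submodule.mem_torsionBySet_iff] at hx ⊢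
        exact fun a => by rw [← map_smul, hx a, map_zero]
    have hgj : Function.Injective gj := fun a b h => Subtype.ext (hg (congrArg Subtype.val h))
    have hle := Module.length_le_of_injective gj hgj
    have hEj := hE.isSocleAt.length_torsion j
    have heq : Module.length R ↥(Submodule.torsionBySet R E ((m ^ j : Ideal R) : Set R)) =
        Module.length R ↥(Submodule.torsionBySet R T ((m ^ j : Ideal R) : Set R)) :=
      le_antisymm (hEj.trans_le (hlen j)) hle
    have hfin : Module.length R ↥(Submodule.torsionBySet R T ((m ^ j : Ideal R) : Set R)) ≠ ⊤ := by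
      rw [← heq, hEj]
      exact Module.length_ne_top_iff.2 (isFiniteLength_quotient_pow j)
    obtain ⟨x, hx⟩ := surjective_of_injective_of_length_eq gj hgj heq hfin
      ⟨y, (Submodule.mem_torsionBySet_iff _ _).2 fun a => hj a.1 a.2⟩
    exact ⟨x.1, congrArg Subtype.val hx⟩
  have hinj : Module.Injective R T := by
    constructor
    intro X Y _ _ _ _ f hf k
    obtain ⟨h, hh⟩ := hE.inj.out f hf (g.comp k)
    refine ⟨(LinearEquiv.ofBijective g ⟨hg, hsurj⟩).symm.toLinearMap.comp h, fun x => ?_⟩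
    rw [LinearMap.comp_apply, hh, LinearEquiv.coe_coe, LinearEquiv.symm_apply_eq]
    rfl
  exact IsHullAt.of_torsion hinj ht he hme hsoc

theorem IsSocleAt.isHullAt_tors [m.IsMaximal] [IsNoetherianRing R] (hC : IsSocleAt m C) :
    IsHullAt m ↥(tors m C) := by
  obtain ⟨e, he, hme, hsoc⟩ := hC.soc
  refine isHullAt_of_length (fun x => ?_)
    (e := ⟨e, (mem_tors m C).2 ⟨1, fun a ha => hme a (by simpa using ha)⟩⟩)
    (fun h => he (congrArg Subtype.val h)) (fun a ha => Subtype.ext (hme a ha))
    (fun x hx => ?_) (fun j => ?_)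
  · obtain ⟨n, hn⟩ := (mem_tors m C).1 x.2
    exact ⟨n, fun a ha => Subtype.ext (hn a ha)⟩
  · obtain ⟨c, hc⟩ := hsoc x.1 (fun a ha => congrArg Subtype.val (hx a ha))
    exact ⟨c, Subtype.ext hc⟩
  · rw [← hC.length_torsion j]
    refine Module.length_le_of_injective
      { toFun := fun x => ⟨⟨x.1, (mem_tors m C).2 ⟨j, fun a ha => (Submodule.mem_torsionBySet_iff _ _).1 x.2 ⟨a, ha⟩⟩⟩,
          (Submodule.mem_torsionBySet_iff _ _).2 fun a => Subtype.ext ((Submodule.mem_torsionBySet_iff _ _).1 x.2 a)⟩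
        map_add' := fun _ _ => rfl
        map_smul' := fun _ _ => rfl }
      (fun a b h => Subtype.ext (congrArg (fun z => z.1.1) h))

section Coextend

variable {A B : Type u} [CommRing A] [CommRing B] [Algebra A B] {E : Type u} [AddCommGroup E] [Module A E]

theorem isSocleAt_coextend {𝔞 : Ideal A} [𝔞.IsMaximal] (hE : IsHullAt 𝔞 E) (n : Ideal B) [n.IsMaximal]
    (hn : 𝔞.map (algebraMap A B) ≤ n) (hfl : IsFiniteLength A (B ⧸ n)) :
    IsSocleAt n ((ModuleCat.coextendScalars (algebraMap A B)).obj (ModuleCat.of A E)) := by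
  refine ⟨injective_coextend A B E hE.inj, ?_⟩
  let toB : ↑((ModuleCat.restrictScalars (algebraMap A B)).obj (ModuleCat.of B B)) → B := fun b => b
  let C := (ModuleCat.coextendScalars (algebraMap A B)).obj (ModuleCat.of A E)
  let mk : B →+ B ⧸ n := (Ideal.Quotient.mk n).toAddMonoidHom
  have hkill : ∀ a ∈ 𝔞 ^ 1, ∀ q : B ⧸ n, a • q = 0 := by
    intro a ha q
    rw [Algebra.smul_def]
    have : algebraMap A (B ⧸ n) a = 0 := by
      rw [IsScalarTower.algebraMap_apply A B (B ⧸ n), Ideal.Quotient.algebraMap_eq, Ideal.Quotient.eq_zero_iff_mem]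
      exact hn (Ideal.mem_map_of_mem _ (by simpa using ha))
    rw [this, zero_mul]
  have hlin : ∀ (r : A) (b : B), (Ideal.Quotient.mk n (algebraMap A B r * b) : B ⧸ n) = r • Ideal.Quotient.mk n b := by
    intro r b
    rw [map_mul, Algebra.smul_def, IsScalarTower.algebraMap_apply A B (B ⧸ n), Ideal.Quotient.algebraMap_eq]
  let up : ((B ⧸ n) →ₗ[A] E) → C := fun ψ =>
    { toFun := fun b => ψ (Ideal.Quotient.mk n (toB b))
      map_add' := fun b c => (congrArg ψ (map_add (Ideal.Quotient.mk n) (toB b) (toB c))).trans (map_add ψ _ _)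
      map_smul' := fun r b => (congrArg ψ (hlin r (toB b))).trans (map_smul ψ r _) }
  have hlen := hE.length_dual (M := B ⧸ n) hfl hkill
  haveI : Nontrivial (B ⧸ n) := Ideal.Quotient.nontrivial_iff.2 (Ideal.IsMaximal.ne_top ‹_›)
  haveI hnt : Nontrivial ((B ⧸ n) →ₗ[A] E) := by
    rw [← Module.length_pos_iff (R := A), hlen]
    exact Module.length_pos
  obtain ⟨ψ₀, hψ₀⟩ := exists_ne (0 : (B ⧸ n) →ₗ[A] E)
  let μ : (B ⧸ n) →ₗ[A] ((B ⧸ n) →ₗ[A] E) :=
    { toFun := fun c => ψ₀.comp (LinearMap.mulLeft A c)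
      map_add' := fun c d => LinearMap.ext fun q => by simp [add_mul]
      map_smul' := fun r c => LinearMap.ext fun q => by simp }
  have hμ : Function.Injective μ := by
    rw [injective_iff_map_eq_zero]
    intro c hc
    by_contra hc0
    letI : Field (B ⧸ n) := Ideal.Quotient.field n
    refine hψ₀ (LinearMap.ext fun q => ?_)
    have := LinearMap.congr_fun hc (c⁻¹ * q)
    simpa [μ, hc0] using this
  have hμs := surjective_of_injective_of_length_eq μ hμ hlen (Module.length_ne_top_iff.2 hfl)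
  refine ⟨up ψ₀, fun h => hψ₀ (LinearMap.ext fun q => ?_), fun a ha => ?_, fun φ hφ => ?_⟩
  · obtain ⟨b, rfl⟩ := Ideal.Quotient.mk_surjective q
    exact LinearMap.congr_fun h b
  · refine LinearMap.ext fun b => ?_
    change ψ₀ (Ideal.Quotient.mk n (toB b * a)) = 0
    rw [Ideal.Quotient.eq_zero_iff_mem.2 (n.mul_mem_left _ ha), map_zero]
  · let fromB : B → ↑((ModuleCat.restrictScalars (algebraMap A B)).obj (ModuleCat.of B B)) := fun b => b
    let φc : ↑((ModuleCat.restrictScalars (algebraMap A B)).obj (ModuleCat.of B B)) →ₗ[A] E := φ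
    let φ₀ : B → E := fun b => φc (fromB b)
    have hzero : ∀ a ∈ n, φ₀ a = 0 := by
      intro a ha
      have h1 : φ₀ ((1 : B) * a) = 0 := LinearMap.congr_fun (hφ a ha) (1 : B)
      rwa [one_mul] at h1
    have hadd : ∀ b c : B, φ₀ (b + c) = φ₀ b + φ₀ c := fun b c => map_add φc (fromB b) (fromB c)
    have hwd : ∀ b c : B, Ideal.Quotient.mk n b = Ideal.Quotient.mk n c → φ₀ b = φ₀ c := by
      intro b c h
      rw [show b = c + (b - c) by ring, hadd, hzero _ (Ideal.Quotient.eq.1 h), add_zero]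
    let inv : (B ⧸ n) → B := Function.surjInv Ideal.Quotient.mk_surjective
    have hinv : ∀ q, Ideal.Quotient.mk n (inv q) = q := Function.surjInv_eq Ideal.Quotient.mk_surjective
    let ψ : (B ⧸ n) →ₗ[A] E :=
      { toFun := fun q => φ₀ (inv q)
        map_add' := fun p q => by
          rw [← hadd]; exact hwd _ _ (by rw [map_add, hinv, hinv, hinv])
        map_smul' := fun r q => by
          refine (hwd _ (algebraMap A B r * inv q) (by rw [hinv, hlin, hinv])).trans ?_
          exact φc.map_smul r (fromB (inv q)) }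
    obtain ⟨q, hq⟩ := hμs ψ
    obtain ⟨c, rfl⟩ := Ideal.Quotient.mk_surjective q
    refine ⟨c, LinearMap.ext fun b => ?_⟩
    change φ₀ (toB b) = ψ₀ (Ideal.Quotient.mk n (toB b * c))
    have h1 : ψ (Ideal.Quotient.mk n (toB b)) = φ₀ (toB b) := hwd _ _ (hinv _)
    rw [← h1, ← hq, map_mul, mul_comm]
    rfl

end Coextend

end Groth.Agent.Matlis6
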