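import Groth.Agent.Matlis6.Recognition
import Mathlib.RingTheory.Ideal.GoingUp
import Mathlib.RingTheory.Ideal.MinimalPrime.Noetherian

/-! `Hom_A(B,E)` for a finite algebra. -/

universe u

namespace Groth.Agent.Matlis6

theorem IsHullAt.congr {R : Type u} [CommRing R] {m : Ideal R} {E F : Type u} [AddCommGroup E] [Module R E]
    [AddCommGroup F] [Module R F] (hE : IsHullAt m E) (e : E ≃ₗ[R] F) : IsHullAt m F := by
  obtain ⟨x, hx, hmx, hess⟩ := hE.ess
  refine ⟨⟨fun X Y _ _ _ _ f hf g => ?_⟩, e x, by simpa using hx, fun a ha => ?_, fun y hy => ?_⟩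
  · obtain ⟨h, hh⟩ := hE.inj.out f hf (e.symm.toLinearMap.comp g)
    exact ⟨e.toLinearMap.comp h, fun z => by simp [hh]⟩
  · rw [← map_smul, hmx a ha, map_zero]
  · obtain ⟨r, c, hr, hc⟩ := hess (e.symm y) (by simpa using hy)
    refine ⟨r, c, fun h => hr ?_, ?_⟩
    · rw [← map_smul, h, map_zero]
    · have := congrArg e hc
      rwa [map_smul, map_smul, e.apply_symm_apply] at this

variable {A B : Type u} [CommRing A] [IsLocalRing A] [IsNoetherianRing A] [CommRing B] [Algebra A B]
  [Module.Finite A B] {E : Type u} [AddCommGroup E] [Module A E]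

local notation "𝔪" => IsLocalRing.maximalIdeal A

omit [IsNoetherianRing A] in
theorem le_of_isMaximal (n : Ideal B) [n.IsMaximal] : Ideal.map (algebraMap A B) 𝔪 ≤ n := by
  haveI : Algebra.IsIntegral A B := Algebra.IsIntegral.of_finite A B
  rw [Ideal.map_le_iff_le_comap, IsLocalRing.eq_maximalIdeal (Ideal.isMaximal_comap_of_isIntegral_of_isMaximal n)]

theorem finite_maximalSpectrum (A B : Type u) [CommRing A] [IsLocalRing A] [IsNoetherianRing A] [CommRing B]
    [Algebra A B] [Module.Finite A B] : {n : Ideal B | n.IsMaximal}.Finite := by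
  haveI : Algebra.IsIntegral A B := Algebra.IsIntegral.of_finite A B
  haveI : IsNoetherianRing B := IsNoetherianRing.of_finite A B
  refine (Ideal.finite_minimalPrimes_of_isNoetherianRing B (Ideal.map (algebraMap A B) (IsLocalRing.maximalIdeal A))).subset ?_
  intro n hn
  haveI : n.IsMaximal := hn
  refine ⟨⟨hn.isPrime, le_of_isMaximal n⟩, fun P hP hPn => ?_⟩
  haveI := hP.1
  haveI : P.IsMaximal := Ideal.isMaximal_of_isIntegral_of_isMaximal_comap (R := A) P
    (by
      have hle := Ideal.map_le_iff_le_comap.1 hP.2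
      rw [← (IsLocalRing.maximalIdeal.isMaximal A).eq_of_le (hP.1.comap (algebraMap A B)).ne_top hle]
      infer_instance)
  exact (Ideal.IsMaximal.eq_of_le ‹P.IsMaximal› hn.ne_top hPn).ge

omit [IsNoetherianRing A] in
theorem isFiniteLength_quotient_maximal (n : Ideal B) [n.IsMaximal] : IsFiniteLength A (B ⧸ n) := by
  haveI : Algebra.IsIntegral A B := Algebra.IsIntegral.of_finite A B
  haveI : n.LiesOver 𝔪 := ⟨(IsLocalRing.eq_maximalIdeal (Ideal.isMaximal_comap_of_isIntegral_of_isMaximal n)).symm⟩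
  letI : Field (A ⧸ 𝔪) := Ideal.Quotient.field _
  haveI : Module.Finite (A ⧸ 𝔪) (B ⧸ n) := Module.Finite.of_restrictScalars_finite A _ _
  have h := isFiniteLength_of_artinian_finite (A := A ⧸ 𝔪) (M := B ⧸ n)
  rw [← Module.length_ne_top_iff] at h ⊢
  rwa [Module.length_eq_of_surjective (R := A ⧸ 𝔪) (S := A) (M := B ⧸ n) Ideal.Quotient.mk_surjective]

theorem exists_pow_kills_coextend (hE : IsHullAt 𝔪 E)
    (φ : ((ModuleCat.coextendScalars (algebraMap A B)).obj (ModuleCat.of A E))) :
    ∃ j : ℕ, ∀ b ∈ (Ideal.map (algebraMap A B) 𝔪) ^ j, b • φ = 0 := by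
  let fromB : B → ↑((ModuleCat.restrictScalars (algebraMap A B)).obj (ModuleCat.of B B)) := fun b => b
  let φc : ↑((ModuleCat.restrictScalars (algebraMap A B)).obj (ModuleCat.of B B)) →ₗ[A] E := φ
  obtain ⟨k, s, hs⟩ := Module.Finite.exists_fin (R := A) (M := B)
  choose e he using fun i => hE.isPowerTorsion (φc (fromB (s i)))
  refine ⟨Finset.univ.sup e, fun b hb => ?_⟩
  rw [← Ideal.map_pow] at hb
  refine Submodule.span_induction ?_ (zero_smul B φ) (fun x y _ _ hx hy => by rw [add_smul, hx, hy, add_zero])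
    (fun c x _ hx => by rw [smul_eq_mul, mul_smul, hx, smul_zero]) hb
  rintro _ ⟨a, ha, rfl⟩
  refine LinearMap.ext fun c => ?_
  let toB : ↑((ModuleCat.restrictScalars (algebraMap A B)).obj (ModuleCat.of B B)) → B := fun b => b
  change φc (fromB (toB c * algebraMap A B a)) = 0
  suffices h : ∀ c : B, φc (fromB (algebraMap A B a * c)) = 0 by rw [mul_comm]; exact h (toB c)
  intro c
  have hc : c ∈ Submodule.span A (Set.range s) := hs ▸ trivial
  refine Submodule.span_induction ?_ ?_ ?_ ?_ hc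
  · rintro _ ⟨i, rfl⟩
    exact (φc.map_smul a (fromB (s i))).trans
      (he i a (Ideal.pow_le_pow_right (Finset.le_sup (Finset.mem_univ i)) ha))
  · rw [mul_zero]; exact map_zero φc
  · intro x y _ _ hx hy
    rw [mul_add]
    exact (map_add φc _ _).trans (by rw [hx, hy, add_zero])
  · intro r x _ hx
    rw [mul_smul_comm, Algebra.smul_def]
    exact (φc.map_smul r (fromB _)).trans (by rw [hx, smul_zero])

theorem coextend_decomposition (hE : IsHullAt 𝔪 E) :
    (∀ n : MaximalSpectrum B,
      IsHullAt n.asIdeal ↥(tors n.asIdeal ((ModuleCat.coextendScalars (algebraMap A B)).obj (ModuleCat.of A E)))) ∧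
    iSupIndep (fun n : MaximalSpectrum B =>
      tors n.asIdeal ((ModuleCat.coextendScalars (algebraMap A B)).obj (ModuleCat.of A E))) ∧
    (⨆ n : MaximalSpectrum B,
      tors n.asIdeal ((ModuleCat.coextendScalars (algebraMap A B)).obj (ModuleCat.of A E))) = ⊤ := by
  classical
  haveI : IsNoetherianRing B := IsNoetherianRing.of_finite A B
  set C := ((ModuleCat.coextendScalars (algebraMap A B)).obj (ModuleCat.of A E))
  refine ⟨fun n => (isSocleAt_coextend hE n.asIdeal (le_of_isMaximal n.asIdeal)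
    (isFiniteLength_quotient_maximal n.asIdeal)).isHullAt_tors, fun n => ?_, ?_⟩
  · rw [Submodule.disjoint_def]
    intro x hx hx'
    let W : Submodule B C :=
      { carrier := {y | ∃ s : B, s ∉ n.asIdeal ∧ s • y = 0}
        add_mem' := by
          rintro y z ⟨s, hs, hsy⟩ ⟨t, ht, htz⟩
          refine ⟨s * t, fun h => (n.isMaximal.isPrime.mem_or_mem h).elim hs ht, ?_⟩
          rw [smul_add, mul_comm, mul_smul, hsy, smul_zero, zero_add, mul_comm, mul_smul, htz, smul_zero]
        zero_mem' := ⟨1, n.isMaximal.ne_top ∘ (Ideal.eq_top_iff_one _).2, smul_zero _⟩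
        smul_mem' := by
          rintro c y ⟨s, hs, hsy⟩
          exact ⟨s, hs, by rw [smul_comm, hsy, smul_zero]⟩ }
    have hW : ∀ n' : MaximalSpectrum B, n' ≠ n → tors n'.asIdeal C ≤ W := by
      intro n' hne y hy
      obtain ⟨j, hj⟩ := (mem_tors n'.asIdeal C).1 hy
      have hnle : ¬ n'.asIdeal ^ j ≤ n.asIdeal := fun h =>
        hne (MaximalSpectrum.ext (n'.isMaximal.eq_of_le n.isMaximal.ne_top (n.isMaximal.isPrime.le_of_pow_le h)))
      obtain ⟨s, hs, hsn⟩ := SetLike.not_le_iff_exists.1 hnle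
      exact ⟨s, hsn, hj s hs⟩
    obtain ⟨s, hs, hsx⟩ := (iSup₂_le hW) hx'
    obtain ⟨j, hj⟩ := (mem_tors n.asIdeal C).1 hx
    by_contra hx0
    haveI := n.isMaximal
    exact hs (ann_le_of_pow_smul hx0 hj s hsx)
  · rw [eq_top_iff]
    intro x _
    set S := ⨆ n : MaximalSpectrum B, tors n.asIdeal C
    let I : Ideal B := Submodule.comap (LinearMap.toSpanSingleton B C x) S
    suffices h : I = ⊤ by
      have : (1 : B) ∈ I := h ▸ trivial
      simpa [I] using this
    by_contra hI
    obtain ⟨n, hn, hIn⟩ := Ideal.exists_le_maximal I hI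
    obtain ⟨j, hj⟩ := exists_pow_kills_coextend hE x
    set M := (finite_maximalSpectrum A B).toFinset
    have hP : (∏ n' ∈ M, n') ≤ (Ideal.map (algebraMap A B) 𝔪).radical := by
      rw [Ideal.radical_eq_sInf]
      refine le_sInf fun P hP => ?_
      haveI := hP.2
      haveI : Algebra.IsIntegral A B := Algebra.IsIntegral.of_finite A B
      haveI : P.IsMaximal := Ideal.isMaximal_of_isIntegral_of_isMaximal_comap (R := A) P (by
        rw [← (IsLocalRing.maximalIdeal.isMaximal A).eq_of_le (hP.2.comap (algebraMap A B)).ne_top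
          (Ideal.map_le_iff_le_comap.1 hP.1)]
        infer_instance)
      exact Ideal.prod_le_inf.trans (Finset.inf_le (Set.Finite.mem_toFinset _ |>.2 ‹P.IsMaximal›))
    obtain ⟨k, hk⟩ := Ideal.exists_pow_le_of_le_radical_of_fg hP (IsNoetherian.noetherian _)
    have hnM : n ∈ M := (Set.Finite.mem_toFinset _).2 hn
    have hnle : ¬ (∏ n' ∈ M.erase n, n') ^ (k * j) ≤ n := by
      intro h
      obtain ⟨n', hn', hle⟩ := hn.isPrime.prod_le.1 (hn.isPrime.le_of_pow_le h)
      rw [Finset.mem_erase] at hn'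
      exact hn'.1 (((Set.Finite.mem_toFinset _).1 hn'.2).eq_of_le hn.ne_top hle)
    obtain ⟨s, hs, hsn⟩ := SetLike.not_le_iff_exists.1 hnle
    refine hsn (hIn ?_)
    change s • x ∈ S
    refine le_iSup (fun n : MaximalSpectrum B => tors n.asIdeal C) ⟨n, hn⟩ ?_
    refine (mem_tors n C).2 ⟨k * j, fun a ha => ?_⟩
    rw [smul_smul]
    refine hj _ ?_
    have : a * s ∈ (∏ n' ∈ M, n') ^ (k * j) := by
      rw [← Finset.mul_prod_erase M (fun t => t) hnM, mul_pow]
      exact Ideal.mul_mem_mul ha hs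
    rw [pow_mul] at this
    exact Ideal.pow_right_mono hk j this

end Groth.Agent.Matlis6
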