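import Groth.Prelude.Def_Wider
import Mathlib.RingTheory.Length
import Mathlib.RingTheory.Artinian.Module
import Mathlib.RingTheory.SimpleModule.Basic
import Mathlib.Algebra.Module.Injective

/-! Matlis duality: basic facts about a hull of `R ⧸ m`. -/

universe u

namespace Groth.Agent.Matlis6

variable {R : Type u} [CommRing R]

/-- `E` is an injective module containing an essential element `e` with annihilator `m`. -/
structure IsHullAt (m : Ideal R) (E : Type u) [AddCommGroup E] [Module R E] : Prop where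
  inj : Module.Injective R E
  ess : ∃ e : E, e ≠ 0 ∧ (∀ a ∈ m, a • e = 0) ∧
    ∀ x : E, x ≠ 0 → ∃ r c : R, r • x ≠ 0 ∧ r • x = c • e

/-- `E` is injective and the elements killed by `m` form a line generated by a non-zero element. -/
structure IsSocleAt (m : Ideal R) (E : Type u) [AddCommGroup E] [Module R E] : Prop where
  inj : Module.Injective R E
  soc : ∃ e : E, e ≠ 0 ∧ (∀ a ∈ m, a • e = 0) ∧ ∀ x : E, (∀ a ∈ m, a • x = 0) → ∃ c : R, x = c • e

variable {m : Ideal R} [hm : m.IsMaximal] {E : Type u} [AddCommGroup E] [Module R E]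

omit hm in
theorem exists_smul_eq_of_isMaximal [m.IsMaximal] {M : Type*} [AddCommGroup M] [Module R M] {x : M}
    (hx : ∀ a ∈ m, a • x = 0) {r : R} (hr : r ∉ m) : ∃ s : R, s • r • x = x := by
  obtain ⟨s, b, hb, h⟩ := Ideal.IsMaximal.exists_inv ‹m.IsMaximal› hr
  exact ⟨s, by rw [smul_smul, eq_sub_of_add_eq h, sub_smul, one_smul, hx b hb, sub_zero]⟩

omit hm in
theorem of_isInjectiveHull [m.IsMaximal] {f : (R ⧸ m) →ₗ[R] E} (hf : InjHull.IsInjectiveHull f) :
    IsHullAt m E := by
  refine ⟨hf.isInjective, f (Submodule.Quotient.mk 1), ?_, ?_, ?_⟩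
  · intro h
    have h' := hf.injective (h.trans (map_zero f).symm)
    exact ‹m.IsMaximal›.ne_top ((Ideal.eq_top_iff_one _).2 ((Submodule.Quotient.mk_eq_zero _).1 h'))
  · intro a ha
    rw [← map_smul, ← Submodule.Quotient.mk_smul, smul_eq_mul, mul_one,
      (Submodule.Quotient.mk_eq_zero _).2 ha, map_zero]
  · intro x hx
    have := hf.essential (R ∙ x) (by simpa using hx)
    obtain ⟨y, ⟨hy1, hy2⟩, hy⟩ := (Submodule.ne_bot_iff _).1 this
    obtain ⟨r, rfl⟩ := Submodule.mem_span_singleton.1 hy1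
    obtain ⟨q, hq⟩ := hy2
    obtain ⟨c, rfl⟩ := Submodule.Quotient.mk_surjective _ q
    refine ⟨r, c, hy, ?_⟩
    rw [← hq, ← map_smul, ← Submodule.Quotient.mk_smul, smul_eq_mul, mul_one]

omit hm in
theorem of_isInjectiveHull_residueField [IsLocalRing R] {f : IsLocalRing.ResidueField R →ₗ[R] E}
    (hf : InjHull.IsInjectiveHull f) : IsHullAt (IsLocalRing.maximalIdeal R) E :=
  of_isInjectiveHull (m := IsLocalRing.maximalIdeal R) (f := f) hf

theorem IsHullAt.exists_isInjectiveHull (hE : IsHullAt m E) :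
    ∃ f : (R ⧸ m) →ₗ[R] E, InjHull.IsInjectiveHull f := by
  obtain ⟨e, he, hme, hess⟩ := hE.ess
  refine ⟨Submodule.liftQ m (LinearMap.toSpanSingleton R E e) (fun a ha => by simpa using hme a ha),
    ⟨⟨?_, ?_⟩, hE.inj⟩⟩
  · rw [injective_iff_map_eq_zero]
    intro q
    induction q using Submodule.Quotient.induction_on with
    | _ r =>
      intro h
      rw [Submodule.liftQ_apply, LinearMap.toSpanSingleton_apply] at h
      by_contra hne
      rw [Submodule.Quotient.mk_eq_zero] at hne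
      obtain ⟨s, hs⟩ := exists_smul_eq_of_isMaximal hme hne
      exact he (by rw [← hs, h, smul_zero])
  · intro N hN
    obtain ⟨x, hx, hx0⟩ := (Submodule.ne_bot_iff _).1 hN
    obtain ⟨r, c, hrx, hrc⟩ := hess x hx0
    refine (Submodule.ne_bot_iff _).2 ⟨r • x, ⟨N.smul_mem r hx, Submodule.Quotient.mk c, ?_⟩, hrx⟩
    rw [hrc]; rfl

/-- socle -/
theorem IsHullAt.eq_smul_of_killed (hE : IsHullAt m E) :
    ∃ e : E, e ≠ 0 ∧ (∀ a ∈ m, a • e = 0) ∧ ∀ x : E, (∀ a ∈ m, a • x = 0) → ∃ c : R, x = c • e := by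
  obtain ⟨e, he, hme, hess⟩ := hE.ess
  refine ⟨e, he, hme, fun x hx => ?_⟩
  by_cases hx0 : x = 0
  · exact ⟨0, by simp [hx0]⟩
  obtain ⟨r, c, hrx, hrc⟩ := hess x hx0
  have hr : r ∉ m := fun h => hrx (hx r h)
  obtain ⟨s, hs⟩ := exists_smul_eq_of_isMaximal hx hr
  exact ⟨s * c, by rw [← hs, hrc, smul_smul]⟩

theorem IsHullAt.isSocleAt (hE : IsHullAt m E) : IsSocleAt m E := ⟨hE.inj, hE.eq_smul_of_killed⟩

theorem IsHullAt.isPowerTorsion [IsNoetherianRing R] (hE : IsHullAt m E) :
    LocCoh.IsPowerTorsion m E := by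
  intro x
  obtain ⟨e, he, hme, hess⟩ := hE.ess
  have key : ∀ a ∈ m, ∃ n : ℕ, a ^ n • x = 0 := by
    intro a ha
    let I : ℕ →o Ideal R :=
      { toFun := fun n => LinearMap.ker (LinearMap.toSpanSingleton R E (a ^ n • x))
        monotone' := monotone_nat_of_le_succ fun n r hr => by
          simp only [LinearMap.mem_ker, LinearMap.toSpanSingleton_apply] at hr ⊢
          rw [pow_succ', mul_smul, smul_comm, hr, smul_zero] }
    obtain ⟨n, hn⟩ := monotone_stabilizes_iff_noetherian.2 ‹IsNoetherianRing R› I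
    refine ⟨n, ?_⟩
    by_contra hne
    obtain ⟨r, c, hry, hrc⟩ := hess _ hne
    have h1 : r ∈ I (n + 1) := by
      change r • a ^ (n + 1) • x = 0
      rw [pow_succ', mul_smul, smul_comm, hrc, smul_comm, hme a ha, smul_zero]
    rw [← hn (n + 1) n.le_succ] at h1
    exact hry h1
  have hle : m ≤ Ideal.radical (LinearMap.ker (LinearMap.toSpanSingleton R E x)) := by
    intro a ha
    obtain ⟨n, hn⟩ := key a ha
    exact ⟨n, by simpa using hn⟩
  obtain ⟨n, hn⟩ := Ideal.exists_pow_le_of_le_radical_of_fg hle (IsNoetherian.noetherian m)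
  exact ⟨n, fun a ha => by simpa using hn ha⟩

/-- Cogenerator property. -/
theorem IsSocleAt.exists_apply_ne_zero (hE : IsSocleAt m E) {G : Type u} [AddCommGroup G] [Module R G]
    {x : G} (hx : ∀ r : R, r • x = 0 → r ∈ m) : ∃ φ : G →ₗ[R] E, φ x ≠ 0 := by
  obtain ⟨e, he, hme, -⟩ := hE.soc
  set K := LinearMap.ker (LinearMap.toSpanSingleton R G x)
  haveI := hE.inj
  obtain ⟨φ, hφ⟩ := Module.Injective.out (R := R) (Q := E) (K.liftQ (LinearMap.toSpanSingleton R G x) le_rfl)
    (LinearMap.ker_eq_bot.1 (Submodule.ker_liftQ_eq_bot' _ _ rfl))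
    (K.liftQ (LinearMap.toSpanSingleton R E e) (fun r hr => by
      simpa using hme r (hx r (by simpa [K] using hr))))
  refine ⟨φ, ?_⟩
  have := hφ (Submodule.Quotient.mk 1)
  simp only [Submodule.liftQ_apply, LinearMap.toSpanSingleton_apply, one_smul] at this
  rw [this]; exact he

theorem IsHullAt.exists_apply_ne_zero (hE : IsHullAt m E) {G : Type u} [AddCommGroup G] [Module R G]
    {x : G} (hx : ∀ r : R, r • x = 0 → r ∈ m) : ∃ φ : G →ₗ[R] E, φ x ≠ 0 :=
  hE.isSocleAt.exists_apply_ne_zero hx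

omit hm in
theorem ann_le_of_pow_smul [hmax : m.IsMaximal] {G : Type*} [AddCommGroup G] [Module R G] {x : G} (hx0 : x ≠ 0)
    {n : ℕ} (hx : ∀ a ∈ m ^ n, a • x = 0) : ∀ r : R, r • x = 0 → r ∈ m := by
  intro r hr
  have hne : LinearMap.ker (LinearMap.toSpanSingleton R G x) ≠ ⊤ := fun h =>
    hx0 (by simpa using (show (1 : R) ∈ LinearMap.ker (LinearMap.toSpanSingleton R G x) from h ▸ trivial))
  obtain ⟨M, hM, hle⟩ := Ideal.exists_le_maximal _ hne
  have hMm : M = m := by
    refine (hmax.eq_of_le hM.ne_top ?_).symm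
    exact hM.isPrime.le_of_pow_le (n := n) fun a ha => hle (by simpa using hx a ha)
  exact hMm ▸ hle (by simpa using hr)

theorem IsSocleAt.exists_apply_ne_zero_of_pow (hE : IsSocleAt m E) {G : Type u} [AddCommGroup G] [Module R G]
    {x : G} (hx0 : x ≠ 0) {n : ℕ} (hx : ∀ a ∈ m ^ n, a • x = 0) : ∃ φ : G →ₗ[R] E, φ x ≠ 0 :=
  hE.exists_apply_ne_zero (ann_le_of_pow_smul hx0 hx)

theorem IsHullAt.exists_apply_ne_zero_of_pow (hE : IsHullAt m E) {G : Type u} [AddCommGroup G] [Module R G]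
    {x : G} (hx0 : x ≠ 0) {n : ℕ} (hx : ∀ a ∈ m ^ n, a • x = 0) : ∃ φ : G →ₗ[R] E, φ x ≠ 0 :=
  hE.exists_apply_ne_zero (ann_le_of_pow_smul hx0 hx)

omit hm in
theorem IsHullAt.exists_apply_ne_zero_local [IsLocalRing R] (hE : IsHullAt (IsLocalRing.maximalIdeal R) E)
    {G : Type u} [AddCommGroup G] [Module R G]
    {x : G} (hx0 : x ≠ 0) : ∃ φ : G →ₗ[R] E, φ x ≠ 0 :=
  hE.exists_apply_ne_zero (G := G) (x := x) fun r hr => by
    by_contra hu
    exact hx0 ((IsUnit.smul_eq_zero (IsLocalRing.notMem_maximalIdeal.1 hu)).1 hr)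

omit hm in
theorem lcomp_surjective (hinj : Module.Injective R E) {A B : Type u} [AddCommGroup A] [Module R A]
    [AddCommGroup B] [Module R B] (g : A →ₗ[R] B) (hg : Function.Injective g) :
    Function.Surjective (LinearMap.lcomp R E g) := fun φ => by
  obtain ⟨h, hh⟩ := hinj.out g hg φ
  exact ⟨h, LinearMap.ext hh⟩

omit hm in
theorem lcomp_exact {A B C : Type u} [AddCommGroup A] [Module R A] [AddCommGroup B] [Module R B]
    [AddCommGroup C] [Module R C] {g : A →ₗ[R] B} {p : B →ₗ[R] C} (hex : Function.Exact g p)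
    (hp : Function.Surjective p) :
    Function.Injective (LinearMap.lcomp R E p) ∧
      Function.Exact (LinearMap.lcomp R E p) (LinearMap.lcomp R E g) := by
  refine ⟨fun φ ψ h => LinearMap.ext fun c => ?_, fun φ => ⟨fun h => ?_, ?_⟩⟩
  · obtain ⟨b, rfl⟩ := hp c
    exact LinearMap.congr_fun h b
  · have hle : LinearMap.range g ≤ LinearMap.ker φ := by
      rintro _ ⟨a, rfl⟩; exact LinearMap.congr_fun h a
    refine ⟨((LinearMap.range g).liftQ φ hle).comp
      (hex.linearEquivOfSurjective hp).symm.toLinearMap, LinearMap.ext fun b => ?_⟩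
    simp only [LinearMap.lcomp_apply, LinearMap.comp_apply, LinearEquiv.coe_coe]
    have : (hex.linearEquivOfSurjective hp).symm (p b) = Submodule.Quotient.mk b := by
      rw [LinearEquiv.symm_apply_eq]; rfl
    rw [this]; rfl
  · rintro ⟨χ, rfl⟩
    refine LinearMap.ext fun a => ?_
    simp [hex.apply_apply_eq_zero]

theorem IsSocleAt.isSimpleModule_dual (hE : IsSocleAt m E) {Q : Type u} [AddCommGroup Q] [Module R Q]
    [IsSimpleModule R Q] (hQ : ∀ a ∈ m, ∀ q : Q, a • q = 0) : IsSimpleModule R (Q →ₗ[R] E) := by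
  haveI := IsSimpleModule.nontrivial R Q
  obtain ⟨x, hx⟩ := exists_ne (0 : Q)
  have hspan : ∀ q : Q, ∃ r : R, r • x = q := fun q => IsSimpleModule.toSpanSingleton_surjective R hx q
  obtain ⟨e, he, hme, hsoc⟩ := hE.soc
  obtain ⟨φ₀, hφ₀⟩ := hE.exists_apply_ne_zero_of_pow (n := 1) hx (fun a ha => hQ a (by simpa using ha) x)
  obtain ⟨c₀, hc₀⟩ := hsoc (φ₀ x) (fun a ha => by rw [← map_smul, hQ a ha, map_zero])
  have hc₀m : c₀ ∉ m := fun h => hφ₀ (by rw [hc₀, hme c₀ h])
  obtain ⟨s, hs⟩ := exists_smul_eq_of_isMaximal hme hc₀m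
  let φ := s • φ₀
  have hφ : φ x = e := by simp [φ, hc₀, hs]
  have hsurj : Function.Surjective (LinearMap.toSpanSingleton R (Q →ₗ[R] E) φ) := by
    intro ψ
    obtain ⟨c, hc⟩ := hsoc (ψ x) (fun a ha => by rw [← map_smul, hQ a ha, map_zero])
    refine ⟨c, LinearMap.ext fun q => ?_⟩
    obtain ⟨r, rfl⟩ := hspan q
    simp [hφ, hc, smul_comm c r]
  have hker : LinearMap.ker (LinearMap.toSpanSingleton R (Q →ₗ[R] E) φ) = m := by
    refine (hm.eq_of_le ?_ ?_).symm
    · intro h
      have h1 : (1 : R) ∈ LinearMap.ker (LinearMap.toSpanSingleton R (Q →ₗ[R] E) φ) := h ▸ trivial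
      simp only [LinearMap.mem_ker, LinearMap.toSpanSingleton_apply, one_smul] at h1
      exact he (by rw [← hφ, h1]; rfl)
    · intro a ha
      exact LinearMap.ext fun q => by simp [← map_smul, hQ a ha]
  exact isSimpleModule_iff_quot_maximal.2 ⟨m, hm,
    ⟨((Submodule.quotEquivOfEq _ _ hker.symm).trans (LinearMap.quotKerEquivOfSurjective _ hsurj)).symm⟩⟩

omit hm in
theorem killed_of_simple [m.IsPrime] {Q : Type*} [AddCommGroup Q] [Module R Q] [IsSimpleModule R Q]
    {n : ℕ} (hQ : ∀ a ∈ m ^ n, ∀ q : Q, a • q = 0) [hmax : m.IsMaximal] : ∀ a ∈ m, ∀ q : Q, a • q = 0 := by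
  intro a ha q
  by_contra hne
  have hq : q ≠ 0 := fun h => hne (by rw [h, smul_zero])
  obtain ⟨r, hr⟩ := IsSimpleModule.toSpanSingleton_surjective R hne q
  simp only [LinearMap.toSpanSingleton_apply] at hr
  have h1 : (r * a - 1) • q = 0 := by rw [sub_smul, one_smul, mul_smul, hr, sub_self]
  have h2 := ann_le_of_pow_smul hq (fun b hb => hQ b hb q) _ h1
  exact hmax.ne_top ((Ideal.eq_top_iff_one _).2
    (by simpa using m.sub_mem (m.mul_mem_left r ha) h2))

theorem IsSocleAt.length_dual (hE : IsSocleAt m E) {M : Type u} [AddCommGroup M] [Module R M]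
    (hfl : IsFiniteLength R M) {n : ℕ} (hn : ∀ a ∈ m ^ n, ∀ x : M, a • x = 0) :
    Module.length R (M →ₗ[R] E) = Module.length R M := by
  induction hfl with
  | @of_subsingleton M =>
    haveI : Subsingleton (M →ₗ[R] E) := ⟨fun f g => LinearMap.ext fun x => by simp [Subsingleton.elim x 0]⟩
    simp [Module.length_eq_zero]
  | @of_simple_quotient M _ _ N _ _ ih =>
    have hQ : ∀ a ∈ m, ∀ q : M ⧸ N, a • q = 0 := killed_of_simple (n := n) (fun a ha q => by
      induction q using Submodule.Quotient.induction_on with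
      | _ x => rw [← Submodule.Quotient.mk_smul, hn a ha, Submodule.Quotient.mk_zero])
    haveI := hE.isSimpleModule_dual hQ
    obtain ⟨hinj, hex⟩ := lcomp_exact (E := E) (LinearMap.exact_subtype_mkQ N) N.mkQ_surjective
    rw [Module.length_eq_add_of_exact _ _ hinj (lcomp_surjective hE.inj _ N.injective_subtype) hex,
      Module.length_eq_add_of_exact N.subtype N.mkQ N.injective_subtype N.mkQ_surjective (LinearMap.exact_subtype_mkQ N),
      Module.length_eq_one R ((M ⧸ N) →ₗ[R] E), Module.length_eq_one R (M ⧸ N),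
      ih (fun a ha x => Subtype.ext (hn a ha x)), add_comm]

theorem IsHullAt.isSimpleModule_dual (hE : IsHullAt m E) {Q : Type u} [AddCommGroup Q] [Module R Q]
    [IsSimpleModule R Q] (hQ : ∀ a ∈ m, ∀ q : Q, a • q = 0) : IsSimpleModule R (Q →ₗ[R] E) :=
  hE.isSocleAt.isSimpleModule_dual hQ

theorem IsHullAt.length_dual (hE : IsHullAt m E) {M : Type u} [AddCommGroup M] [Module R M]
    (hfl : IsFiniteLength R M) {n : ℕ} (hn : ∀ a ∈ m ^ n, ∀ x : M, a • x = 0) :
    Module.length R (M →ₗ[R] E) = Module.length R M :=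
  hE.isSocleAt.length_dual hfl hn

omit hm in
theorem surjective_of_injective_of_length_eq {M N : Type u} [AddCommGroup M] [Module R M] [AddCommGroup N]
    [Module R N] (f : M →ₗ[R] N) (hf : Function.Injective f) (h : Module.length R N = Module.length R M)
    (hfin : Module.length R M ≠ ⊤) : Function.Surjective f := by
  have h1 := Module.length_eq_add_of_exact f (LinearMap.range f).mkQ hf (Submodule.mkQ_surjective _)
    (by rw [LinearMap.exact_iff, Submodule.ker_mkQ])
  rw [h] at h1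
  have h2 : Module.length R (N ⧸ LinearMap.range f) = 0 := by
    have : Module.length R M + Module.length R (N ⧸ LinearMap.range f) ≤ Module.length R M + 0 := by
      rw [add_zero, ← h1]
    exact le_antisymm ((WithTop.add_le_add_iff_left hfin).1 this) bot_le
  rw [Module.length_eq_zero_iff] at h2
  intro y
  exact (Submodule.Quotient.mk_eq_zero (LinearMap.range f)).1 (Subsingleton.elim (Submodule.Quotient.mk y) 0)

omit hm in
theorem applyl_injective {G : Type u} [AddCommGroup G] [Module R G]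
    (h : ∀ x : G, x ≠ 0 → ∃ φ : G →ₗ[R] E, φ x ≠ 0) :
    Function.Injective (LinearMap.applyₗ : G →ₗ[R] (G →ₗ[R] E) →ₗ[R] E) := by
  rw [injective_iff_map_eq_zero]
  intro x hx
  by_contra hne
  obtain ⟨φ, hφ⟩ := h x hne
  exact hφ (LinearMap.congr_fun hx φ)

theorem IsHullAt.applyl_bijective (hE : IsHullAt m E) {M : Type u} [AddCommGroup M] [Module R M]
    (hfl : IsFiniteLength R M) {n : ℕ} (hn : ∀ a ∈ m ^ n, ∀ x : M, a • x = 0) :
    Function.Bijective (LinearMap.applyₗ : M →ₗ[R] (M →ₗ[R] E) →ₗ[R] E) := by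
  have hinj := applyl_injective (G := M) fun x hx => hE.exists_apply_ne_zero_of_pow hx (fun a ha => hn a ha x)
  have hlen := hE.length_dual hfl hn
  have hfin := Module.length_ne_top_iff.2 hfl
  refine ⟨hinj, surjective_of_injective_of_length_eq _ hinj ?_ hfin⟩
  rw [hE.length_dual (M := M →ₗ[R] E) (Module.length_ne_top_iff.1 (by rw [hlen]; exact hfin))
    (n := n) (fun a ha φ => LinearMap.ext fun x => by simp [← map_smul, hn a ha]), hlen]

omit hm in
theorem exists_pow_killed_of_isFiniteLength [IsLocalRing R] {M : Type*} [AddCommGroup M] [Module R M]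
    (hfl : IsFiniteLength R M) : ∃ n : ℕ, ∀ a ∈ IsLocalRing.maximalIdeal R ^ n, ∀ x : M, a • x = 0 := by
  induction hfl with
  | of_subsingleton => exact ⟨0, fun _ _ _ => Subsingleton.elim _ _⟩
  | @of_simple_quotient M _ _ N _ _ ih =>
    obtain ⟨n, hn⟩ := ih
    obtain ⟨I, hI, ⟨e⟩⟩ := isSimpleModule_iff_quot_maximal.1 ‹IsSimpleModule R (M ⧸ N)›
    rw [IsLocalRing.eq_maximalIdeal hI] at e
    have hq : ∀ a ∈ IsLocalRing.maximalIdeal R, ∀ x : M, a • x ∈ N := by
      intro a ha x
      rw [← Submodule.Quotient.mk_eq_zero, Submodule.Quotient.mk_smul]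
      apply e.injective
      rw [map_zero, map_smul]
      obtain ⟨r, hr⟩ := Submodule.Quotient.mk_surjective _ (e (Submodule.Quotient.mk x))
      rw [← hr, ← Submodule.Quotient.mk_smul, Submodule.Quotient.mk_eq_zero]
      exact Ideal.mul_mem_right _ _ ha
    refine ⟨n + 1, fun a ha x => ?_⟩
    rw [pow_succ] at ha
    refine Submodule.mul_induction_on ha (fun b hb c hc => ?_) (fun b c hb hc => by rw [add_smul, hb, hc, add_zero])
    rw [mul_smul]
    exact congrArg Subtype.val (hn b hb ⟨c • x, hq c hc x⟩)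

omit hm in
theorem isFiniteLength_of_artinian_finite {A : Type u} [CommRing A] [IsArtinianRing A] {M : Type*}
    [AddCommGroup M] [Module A M] [Module.Finite A M] : IsFiniteLength A M :=
  isFiniteLength_iff_isNoetherian_isArtinian.2 ⟨inferInstance, inferInstance⟩

end Groth.Agent.Matlis6
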