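import Groth.Agent.Matlis6.Basic
import Mathlib.RingTheory.AdicCompletion.Algebra
import Mathlib.RingTheory.AdicCompletion.LocalRing
import Mathlib.RingTheory.HopkinsLevitzki
import Mathlib.RingTheory.KrullDimension.Zero

/-! Matlis duality: the completion acts on power torsion modules; endomorphisms of the hull. -/

universe u

namespace Groth.Agent.Matlis6

open AdicCompletion

variable {R : Type u} [CommRing R] {m : Ideal R}

theorem factor_evalₐ {i j : ℕ} (hij : i ≤ j) (α : AdicCompletion m R) :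
    Ideal.Quotient.factor (Ideal.pow_le_pow_right hij) (evalₐ m j α) = evalₐ m i α := by
  induction α using AdicCompletion.induction_on with
  | _ f =>
    rw [evalₐ_mk, evalₐ_mk, Ideal.Quotient.factor_mk]
    exact AdicCompletion.Ideal.mk_eq_mk m hij f

variable {E : Type*} [AddCommGroup E] [Module R E]

theorem smul_eq_of_repr (α : AdicCompletion m R) {x : E} {i j : ℕ}
    (hi : ∀ a ∈ m ^ i, a • x = 0) (hj : ∀ a ∈ m ^ j, a • x = 0) {r s : R}
    (hr : Ideal.Quotient.mk (m ^ i) r = evalₐ m i α) (hs : Ideal.Quotient.mk (m ^ j) s = evalₐ m j α) :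
    r • x = s • x := by
  wlog hij : i ≤ j generalizing i j r s
  · exact (this hj hi hs hr (le_of_not_ge hij)).symm
  · have h : Ideal.Quotient.mk (m ^ i) r = Ideal.Quotient.mk (m ^ i) s := by
      rw [hr, ← factor_evalₐ hij α, ← hs, Ideal.Quotient.factor_mk]
    rw [← sub_eq_zero, ← sub_smul]
    exact hi _ (Ideal.Quotient.eq.1 h)

/-- Action of the completion on a power torsion module. -/
noncomputable def actFun (hT : LocCoh.IsPowerTorsion m E) (α : AdicCompletion m R) (x : E) : E :=
  (Ideal.Quotient.mk_surjective (evalₐ m (hT x).choose α)).choose • x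

theorem actFun_eq (hT : LocCoh.IsPowerTorsion m E) (α : AdicCompletion m R) (x : E) {i : ℕ}
    (hi : ∀ a ∈ m ^ i, a • x = 0) {r : R} (hr : Ideal.Quotient.mk (m ^ i) r = evalₐ m i α) :
    actFun hT α x = r • x :=
  smul_eq_of_repr α (hT x).choose_spec hi (Ideal.Quotient.mk_surjective (evalₐ m (hT x).choose α)).choose_spec hr

theorem pow_kill_mono {x : E} {i j : ℕ} (hij : i ≤ j) (hi : ∀ a ∈ m ^ i, a • x = 0) :
    ∀ a ∈ m ^ j, a • x = 0 := fun a ha => hi a (Ideal.pow_le_pow_right hij ha)

theorem exists_repr (α : AdicCompletion m R) (i : ℕ) :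
    ∃ r, Ideal.Quotient.mk (m ^ i) r = evalₐ m i α := Ideal.Quotient.mk_surjective _

theorem actFun_add (hT : LocCoh.IsPowerTorsion m E) (α : AdicCompletion m R) (x y : E) :
    actFun hT α (x + y) = actFun hT α x + actFun hT α y := by
  obtain ⟨i, hi⟩ := hT x; obtain ⟨j, hj⟩ := hT y
  have hx := pow_kill_mono (le_max_left i j) hi
  have hy := pow_kill_mono (le_max_right i j) hj
  obtain ⟨r, hr⟩ := exists_repr α (max i j)
  rw [actFun_eq hT α x hx hr, actFun_eq hT α y hy hr,
    actFun_eq hT α (x + y) (fun a ha => by rw [smul_add, hx a ha, hy a ha, add_zero]) hr, smul_add]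

theorem actFun_smul (hT : LocCoh.IsPowerTorsion m E) (α : AdicCompletion m R) (c : R) (x : E) :
    actFun hT α (c • x) = c • actFun hT α x := by
  obtain ⟨i, hi⟩ := hT x
  obtain ⟨r, hr⟩ := exists_repr α i
  rw [actFun_eq hT α x hi hr, actFun_eq hT α (c • x) (fun a ha => by rw [smul_comm, hi a ha, smul_zero]) hr,
    smul_comm]

/-- The action as an algebra map to endomorphisms. -/
noncomputable def act (hT : LocCoh.IsPowerTorsion m E) : AdicCompletion m R →ₐ[R] Module.End R E where
  toFun α := { toFun := actFun hT α, map_add' := actFun_add hT α, map_smul' := actFun_smul hT α }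
  map_one' := LinearMap.ext fun x => by
    obtain ⟨i, hi⟩ := hT x
    exact (actFun_eq hT 1 x hi (r := 1) (by rw [map_one, map_one])).trans (one_smul R x)
  map_mul' α β := LinearMap.ext fun x => by
    obtain ⟨i, hi⟩ := hT x
    obtain ⟨r, hr⟩ := exists_repr α i
    obtain ⟨s, hs⟩ := exists_repr β i
    change actFun hT (α * β) x = actFun hT α (actFun hT β x)
    rw [actFun_eq hT β x hi hs, actFun_eq hT (α * β) x hi (r := r * s) (by rw [map_mul, hr, hs, ← map_mul]),
      actFun_eq hT α (s • x) (fun a ha => by rw [smul_comm, hi a ha, smul_zero]) hr, mul_smul]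
  map_zero' := LinearMap.ext fun x => by
    obtain ⟨i, hi⟩ := hT x
    exact (actFun_eq hT 0 x hi (r := 0) (by rw [_root_.map_zero, _root_.map_zero])).trans (zero_smul R x)
  map_add' α β := LinearMap.ext fun x => by
    obtain ⟨i, hi⟩ := hT x
    obtain ⟨r, hr⟩ := exists_repr α i
    obtain ⟨s, hs⟩ := exists_repr β i
    change actFun hT (α + β) x = actFun hT α x + actFun hT β x
    rw [actFun_eq hT β x hi hs, actFun_eq hT α x hi hr,
      actFun_eq hT (α + β) x hi (r := r + s) (by rw [map_add, hr, hs, ← map_add]), add_smul]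
  commutes' c := LinearMap.ext fun x => by
    obtain ⟨i, hi⟩ := hT x
    refine (actFun_eq hT (algebraMap R (AdicCompletion m R) c) x hi (r := c) ?_).trans ?_
    · rw [AlgHom.commutes]; rfl
    · rfl

theorem act_eq (hT : LocCoh.IsPowerTorsion m E) (α : AdicCompletion m R) (x : E) {i : ℕ}
    (hi : ∀ a ∈ m ^ i, a • x = 0) {r : R} (hr : Ideal.Quotient.mk (m ^ i) r = evalₐ m i α) :
    act hT α x = r • x := actFun_eq hT α x hi hr

variable [hm : m.IsMaximal] [IsNoetherianRing R]

theorem isFiniteLength_quotient_pow (i : ℕ) : IsFiniteLength R (R ⧸ m ^ i) := by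
  haveI : Ring.KrullDimLE 0 (R ⧸ m ^ i) := by
    rw [Ring.krullDimLE_zero_iff]
    intro P hP
    haveI : (P.comap (Ideal.Quotient.mk (m ^ i))).IsMaximal := by
      have hle : m ≤ P.comap (Ideal.Quotient.mk (m ^ i)) :=
        (hP.comap (Ideal.Quotient.mk (m ^ i))).le_of_pow_le (n := i) fun a ha => by
          simp [Ideal.Quotient.eq_zero_iff_mem.2 ha]
      rwa [← hm.eq_of_le (hP.comap (Ideal.Quotient.mk (m ^ i))).ne_top hle]
    rw [← Ideal.map_comap_of_surjective _ Ideal.Quotient.mk_surjective P]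
    exact Ideal.IsMaximal.map_of_surjective_of_ker_le Ideal.Quotient.mk_surjective
      (Ideal.comap_mono bot_le)
  haveI : IsArtinianRing (R ⧸ m ^ i) := IsNoetherianRing.isArtinianRing_of_krullDimLE_zero
  have h := isFiniteLength_of_artinian_finite (A := R ⧸ m ^ i) (M := R ⧸ m ^ i)
  rw [← Module.length_ne_top_iff] at h ⊢
  rwa [Module.length_eq_of_surjective (R := R ⧸ m ^ i) (S := R) (M := R ⧸ m ^ i) Ideal.Quotient.mk_surjective]

omit hm [IsNoetherianRing R] in
theorem killed_quotient_pow (i : ℕ) : ∀ a ∈ m ^ i, ∀ q : R ⧸ m ^ i, a • q = 0 := by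
  intro a ha q
  induction q using Submodule.Quotient.induction_on with
  | _ x =>
    rw [← Submodule.Quotient.mk_smul, Submodule.Quotient.mk_eq_zero]
    exact Ideal.mul_mem_right _ _ ha

variable {E : Type u} [AddCommGroup E] [Module R E]

omit [IsNoetherianRing R] in
/-- `E[m^i]` is faithful over `R/m^i`. -/
theorem IsHullAt.mem_pow_of_kills (hE : IsHullAt m E) {i : ℕ} {r : R}
    (h : ∀ x : E, (∀ a ∈ m ^ i, a • x = 0) → r • x = 0) : r ∈ m ^ i := by
  by_contra hr
  obtain ⟨φ, hφ⟩ := hE.exists_apply_ne_zero_of_pow (G := R ⧸ m ^ i) (x := Submodule.Quotient.mk r)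
    (by rwa [Ne, Submodule.Quotient.mk_eq_zero]) (fun a ha => killed_quotient_pow i a ha _)
  refine hφ ?_
  have := h (φ (Submodule.Quotient.mk 1)) (fun a ha => by rw [← map_smul, killed_quotient_pow i a ha, _root_.map_zero])
  rwa [← map_smul, ← Submodule.Quotient.mk_smul, smul_eq_mul, mul_one] at this

theorem IsHullAt.exists_repr_end (hE : IsHullAt m E) (φ : Module.End R E) (i : ℕ) :
    ∃ r : R, ∀ x : E, (∀ a ∈ m ^ i, a • x = 0) → φ x = r • x := by
  let Ψ : ((R ⧸ m ^ i) →ₗ[R] E) →ₗ[R] E := φ.comp (LinearMap.applyₗ (Submodule.Quotient.mk 1))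
  obtain ⟨q, hq⟩ := (hE.applyl_bijective (isFiniteLength_quotient_pow i) (killed_quotient_pow i)).2 Ψ
  obtain ⟨r, rfl⟩ := Submodule.Quotient.mk_surjective _ q
  refine ⟨r, fun x hx => ?_⟩
  have := LinearMap.congr_fun hq (Submodule.liftQ (m ^ i) (LinearMap.toSpanSingleton R E x)
    (fun a ha => by simpa using hx a ha))
  calc φ x = φ (Submodule.liftQ (m ^ i) (LinearMap.toSpanSingleton R E x)
        (fun a ha => by simpa using hx a ha) (Submodule.Quotient.mk 1)) := by
          rw [Submodule.liftQ_apply, LinearMap.toSpanSingleton_apply, one_smul]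
    _ = _ := this.symm
    _ = r • x := rfl

theorem IsHullAt.act_bijective (hE : IsHullAt m E) :
    Function.Bijective (act hE.isPowerTorsion) := by
  refine ⟨?_, fun φ => ?_⟩
  · rw [injective_iff_map_eq_zero]
    intro α hα
    refine AdicCompletion.ext_evalₐ fun i => ?_
    obtain ⟨r, hr⟩ := exists_repr α i
    rw [_root_.map_zero, ← hr, Ideal.Quotient.eq_zero_iff_mem]
    refine hE.mem_pow_of_kills fun x hx => ?_
    rw [← act_eq hE.isPowerTorsion α x hx hr, hα]
    rfl
  · choose r hr using hE.exists_repr_end φ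
    let f : AdicCauchySequence m R := AdicCauchySequence.mk m R r fun n => by
      rw [SModEq.sub_mem, smul_eq_mul, Ideal.mul_top]
      refine hE.mem_pow_of_kills fun x hx => ?_
      rw [sub_smul, ← hr n x hx, ← hr (n + 1) x (pow_kill_mono n.le_succ hx), sub_self]
    refine ⟨AdicCompletion.mk m R f, LinearMap.ext fun x => ?_⟩
    obtain ⟨i, hi⟩ := hE.isPowerTorsion x
    rw [act_eq hE.isPowerTorsion _ x hi (r := r i) (by rw [evalₐ_mk]; rfl), hr i x hi]

/-- `End E ≅ completion`. -/
noncomputable def IsHullAt.endEquiv (hE : IsHullAt m E) : AdicCompletion m R ≃ₐ[R] Module.End R E :=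
  AlgEquiv.ofBijective (act hE.isPowerTorsion) hE.act_bijective

theorem IsHullAt.isArtinian_of_isNoetherianRing (hE : IsHullAt m E)
    [IsNoetherianRing (AdicCompletion m R)] : IsArtinian R E := by
  let J : Submodule R E → Ideal (AdicCompletion m R) := fun N =>
    { carrier := {α | ∀ x ∈ N, act hE.isPowerTorsion α x = 0}
      add_mem' := fun {a b} ha hb x hx => by
        rw [map_add, LinearMap.add_apply, ha x hx, hb x hx, add_zero]
      zero_mem' := fun x hx => by rw [_root_.map_zero]; rfl
      smul_mem' := fun c a ha x hx => by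
        rw [smul_eq_mul, map_mul, Module.End.mul_apply, ha x hx, _root_.map_zero] }
  have hanti : ∀ N N' : Submodule R E, N ≤ N' → J N' ≤ J N := fun N N' h α hα x hx => hα x (h hx)
  have hinj : ∀ N N' : Submodule R E, J N' ≤ J N → N ≤ N' := by
    intro N N' h x hx
    by_contra hx'
    obtain ⟨i, hi⟩ := hE.isPowerTorsion x
    obtain ⟨φ, hφ⟩ := hE.exists_apply_ne_zero_of_pow (G := E ⧸ N') (x := Submodule.Quotient.mk x)
      (by rwa [Ne, Submodule.Quotient.mk_eq_zero]) (n := i)
      (fun a ha => by rw [← Submodule.Quotient.mk_smul, hi a ha, Submodule.Quotient.mk_zero])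
    obtain ⟨α, hα⟩ := hE.act_bijective.2 (φ.comp N'.mkQ)
    have hα' : α ∈ J N' := fun y hy => by
      rw [hα, LinearMap.comp_apply, Submodule.mkQ_apply, (Submodule.Quotient.mk_eq_zero N').2 hy, _root_.map_zero]
    have := h hα' x hx
    rw [hα] at this
    exact hφ this
  have hstrict : StrictAnti J := fun N N' h =>
    lt_of_le_of_ne (hanti N N' h.le) fun heq => h.not_ge (hinj N' N heq.ge)
  refine ⟨Subrelation.wf (fun {a b} hab => hstrict hab)
    (InvImage.wf J (IsWellFounded.wf (r := (· > · : Ideal (AdicCompletion m R) → Ideal (AdicCompletion m R) → Prop))))⟩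

end Groth.Agent.Matlis6
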